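import Cfsg.Agent.E8A.Odd.Sl2_m3
import Cfsg.Agent.ChevFast.E8
import Cfsg.Agent.ChevFast.Lin
import Cfsg.Agent.E8A.C63.Abc_m3
import Cfsg.Agent.Lib.FinFast
import Cfsg.Agent.FastGrp
import Cfsg.Agent.Prune
set_option linter.all false

-- part: E8A/D44/So16
section
prune_inst 0x7f00000000000000000000000000000000000000000000000000000000000000000000000000000000000000000000000000000000000000000000000000000000000000000000000000000000000000003fffffffffffffffffffffffffffbeffbdffffffff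
set_option linter.all false
open scoped Cfsg.Agent.FastGrp

/-!
# The subalgebra of type `D₈` of `E₈` in characteristic 3 (helper43)

* `fm` : the split symmetric form on `K¹⁶`; `be a b` : the vector `a ∧ b`; `br_be`, `be_rt`, `be_inj`.
-/

set_option autoImplicit false
set_option maxRecDepth 100000

namespace Cfsg.Agent.E8A.D44

open CoxeterSystem Cfsg Cfsg.Lie Module
open Cfsg.Agent.ChevalleyStructure Cfsg.Agent.ChevalleyStructure.CoxeterGeom
  Cfsg.Agent.ChevalleyStructure.CoxeterGeomTypes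
open Cfsg.Agent.Tits.Roots Cfsg.Agent.Nodes.Reps Cfsg.Agent.Nodes.BNOf Cfsg.Agent.Nodes.RGDChev
open Cfsg.Agent.H288.E8L (Q8 wt wt_inl wt_inr)
open Cfsg.Agent.H897.T5Lat (bf_apply)
open Cfsg.Agent.E8A.Frm (B0)
open Cfsg.Agent.E8A.Par (op vec_op op_ne adm_ee mx_xr_entry)
open Cfsg.Agent.E8A.TwoH
open Cfsg.Agent.E8A.TwoB (rl_sum rl_ee)

universe u

/-! ### tables -/

/-- the opposite index -/
def bar (i : Fin 16) : Fin 16 := i + 8

/-- twice the weights of the natural module -/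
def E2 (i : Fin 16) : Q8 := fun k => ([[-4, -5, -7, -10, -8, -6, -4, -2], [0, 1, 1, 2, 2, 2, 2, 2], [0, 1, 1, 2, 2, 2, 2, 0],
  [0, 1, 1, 2, 2, 2, 0, 0], [0, 1, 1, 2, 2, 0, 0, 0], [0, 1, 1, 2, 0, 0, 0, 0], [0, 1, 1, 0, 0, 0, 0, 0],
  [0, 1, -1, 0, 0, 0, 0, 0], [4, 5, 7, 10, 8, 6, 4, 2], [0, -1, -1, -2, -2, -2, -2, -2], [0, -1, -1, -2, -2, -2, -2, 0],
  [0, -1, -1, -2, -2, -2, 0, 0], [0, -1, -1, -2, -2, 0, 0, 0], [0, -1, -1, -2, 0, 0, 0, 0], [0, -1, -1, 0, 0, 0, 0, 0],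
  [0, -1, 1, 0, 0, 0, 0, 0]].getD i []).getD k 0

/-- the roots -/
def rtT : ℕ := 48513171899990077969211821474462936360664206715423560366785420959076117593222966462936805027663676929559144205403092877008031244265926903814720595341075710337779273721315893596034578249638590503856096151188477488663224770524658265351496978275509964873855288214705607337088805863627085401023245455931280671714046246441151929596377826956290857283280240502165533625897801895494766694037100269131147840813043201472565024160045994541895678185150692073124369762842229219373632354765048926227204636411777841604881952721578402970472845034753833580851269156815965701319291914202460575461904768689324253156658531559443008768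

/-- the index pairs of the roots -/
def ivT : ℕ := 48045686918373542995674096114833034879375003958201210309530093978889490859588048044762533013251984818726681727517114066141351294081929728928781190864756295539614342908196538127797701791376770069215850089501943865987358271324682800749604055443113840482112468484867611264970199248862983713255633850765219482577041327602566223641133116763372023857842207798375336504846115251002853805276238542689483679033015865537339704066483662470316112605440326732401381506794973961398908006368166183202622753867267749632455734170650089322243636939014522994492103387285879351638223597966690656400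

/-- the root `ε_i + ε_j` -/
def rt (i j : Fin 16) : Fin chevE8.nroots := ⟨rtT / 256 ^ (16 * i.val + j.val) % 256 % 240, Nat.mod_lt _ (by norm_num)⟩

/-- the signs -/
def sg (i j : Fin 16) : ℤ :=
  if 38070544132968865490831659509705684862082606189903759826337430761845409797120 / 2 ^ (16 * i.val + j.val) % 2 = 1
  then -1 else 1

/-- the structure constants -/
def nn (r s u : ℕ) : ℤ := ((chevE8.chainCoeff r s u).map fun km => km.2).sum

/-- `ε_i + ε_j` is a root -/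
abbrev Od (i j : Fin 16) : Prop := j ≠ i ∧ j ≠ bar i

theorem bar_bar : ∀ i, bar (bar i) = i := by decide

theorem bar_ne : ∀ i, bar i ≠ i := by decide

theorem eq_bar : ∀ {i j : Fin 16}, i = bar j ↔ j = bar i := by decide +kernel

theorem bar_inj : ∀ {i j : Fin 16}, bar i = bar j ↔ i = j := by decide +kernel

theorem E2_bar : ∀ i, E2 (bar i) = -E2 i := by (open scoped Cfsg.Agent.ChevFast.Lin in decide +kernel)

theorem B0_E0 : ∀ i j : Fin 16, (∑ k, ∑ l, E2 i k * cartanOf chevE8 8 k l * E2 j l) =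
    4 * ((if i = j then 1 else 0) - if i = bar j then 1 else 0) := by (delta Cfsg.Agent.ChevalleyStructure.CoxeterGeomTypes.cartanOf; rewrite [Cfsg.Agent.ChevFast.E8.cartan]; decide +kernel)

theorem B0_E (i j : Fin 16) : B0 (E2 i) (E2 j) = 4 * ((if i = j then 1 else 0) - if i = bar j then 1 else 0) := by
  rw [bf_apply, B0_E0]

theorem vec_rt : ∀ i j, Od i j → (2 : ℤ) • vec chevE8 8 (rt i j) = E2 i + E2 j := by decide +kernel

theorem tab_rt : ∀ i j, Od i j → rt j i = rt i j ∧ sg j i = -sg i j ∧ sg (bar j) (bar i) = sg i j ∧ sg i j * sg i j = 1 := by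
  decide +kernel

theorem nn_rt : ∀ i j, Od i j → ∀ l, Od (bar j) l → Od i l →
    nn (rt i j) (rt (bar j) l) (rt i l) * sg i j * sg (bar j) l = sg i l := by (delta Cfsg.Agent.E8A.D44.nn; rewrite [Cfsg.Agent.ChevFast.E8.chainCoeff]; open scoped Cfsg.Agent.ChevFast.Lin in decide +kernel)

theorem exists_rt0 : ∀ r : Fin chevE8.nroots, 2 ∣ vec chevE8 8 r 0 →
    Od (Fin.ofNat 16 (ivT / 256 ^ r.val % 256 / 16)) (Fin.ofNat 16 (ivT / 256 ^ r.val)) ∧
    r = rt (Fin.ofNat 16 (ivT / 256 ^ r.val % 256 / 16)) (Fin.ofNat 16 (ivT / 256 ^ r.val)) := by decide +kernel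

theorem exists_rt (r : Fin chevE8.nroots) (h : 2 ∣ vec chevE8 8 r 0) : ∃ i j, Od i j ∧ r = rt i j := ⟨_, _, exists_rt0 r h⟩

theorem od_symm {i j : Fin 16} (h : Od i j) : Od j i := ⟨h.1.symm, fun e => h.2 (eq_bar.1 e)⟩

theorem od_bar {i j : Fin 16} (h : Od i j) : Od (bar j) (bar i) :=
  ⟨fun e => h.1 (bar_inj.1 e).symm, fun e => h.2 (by rw [e, bar_bar])⟩

theorem two_inj {a b : Q8} (h : (2 : ℤ) • a = (2 : ℤ) • b) : a = b := smul_right_injective _ two_ne_zero h

theorem B0_Er (m : Fin 16) {k l : Fin 16} (h : Od k l) : B0 (E2 m) (vec chevE8 8 (rt k l)) =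
    2 * (((if m = k then 1 else 0) - if m = bar k then 1 else 0) + ((if m = l then 1 else 0) - if m = bar l then 1 else 0)) := by
  have h1 := congrArg (B0 (E2 m)) (vec_rt k l h)
  rw [map_add, B0_E, B0_E, map_smul, smul_eq_mul] at h1
  omega

theorem B0_rr {i j k l : Fin 16} (h : Od i j) (h' : Od k l) : B0 (vec chevE8 8 (rt i j)) (vec chevE8 8 (rt k l)) =
    (((if i = k then 1 else 0) - if i = bar k then 1 else 0) + ((if i = l then 1 else 0) - if i = bar l then 1 else 0)) +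
    (((if j = k then 1 else 0) - if j = bar k then 1 else 0) + ((if j = l then 1 else 0) - if j = bar l then 1 else 0)) := by
  have h1 := congrArg (fun a => B0 a (vec chevE8 8 (rt k l))) (vec_rt i j h)
  simp only [map_add, map_smul, LinearMap.add_apply, LinearMap.smul_apply, smul_eq_mul, B0_Er _ h'] at h1
  omega

theorem rt_inj {i j k l : Fin 16} (h : Od i j) (h' : Od k l) (e : rt i j = rt k l) : (i = k ∧ j = l) ∨ (i = l ∧ j = k) := by
  have h1 := B0_vec (rt i j)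
  nth_rw 2 [e] at h1
  rw [B0_rr h h'] at h1
  have a1 : ∀ (p q : Prop) [Decidable p] [Decidable q], ((if p then 1 else 0) - if q then 1 else 0 : ℤ) ≤
      if p then 1 else 0 := fun p q _ _ => by split_ifs <;> decide
  have b1 := a1 (i = k) (i = bar k)
  have b2 := a1 (i = l) (i = bar l)
  have b3 := a1 (j = k) (j = bar k)
  have b4 := a1 (j = l) (j = bar l)
  have b5 : (2 : ℤ) ≤ (if i = k then 1 else 0) + (if i = l then 1 else 0) + ((if j = k then 1 else 0) +
    (if j = l then 1 else 0)) := h1 ▸ add_le_add (add_le_add b1 b2) (add_le_add b3 b4)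
  have c1 := h.1
  have c2 := h'.1
  clear * - b5 c1 c2
  split_ifs at b5 <;> omega

theorem op_rt {i j : Fin 16} (h : Od i j) : op (rt i j) = rt (bar j) (bar i) :=
  vec_injective (two_inj (by rw [vec_op, smul_neg, vec_rt i j h, vec_rt _ _ (od_bar h), E2_bar, E2_bar]; abel))

variable {K : Type u} [Field K]

theorem br_nn {r s u : Fin chevE8.nroots} (h : vec chevE8 8 u = vec chevE8 8 r + vec chevE8 8 s) :
    br (ee K (Sum.inr r)) (ee K (Sum.inr s)) = (nn r s u : K) • ee K (Sum.inr u) := by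
  have h0 : B0 (vec chevE8 8 r) (vec chevE8 8 s) = -1 := by
    have h2 := B0_vec u
    rw [h, B0_add, B0_vec, B0_vec] at h2
    omega
  have h1 : s ≠ r := by
    rintro rfl
    rw [B0_vec] at h0
    omega
  have h2 : s ≠ op r := by
    rintro rfl
    rw [vec_op, map_neg, B0_vec] at h0
    omega
  have h3 := mx_xr_entry r (1 : K) (Sum.inr u) (Sum.inr s)
  rw [mx_xr, Elts.x_of_lt r.2, if_neg (c := _ ∧ _) fun e => h2 (Sum.inr.inj e.2), sub_zero, one_mul, adm_ee] at h3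
  have h4 : chevE8.xMat K r 1 (Sum.inr u) (Sum.inr s) = (if u = s then 1 else 0) + (nn r s u : K) := by
    show (if s = r then _ else if s.val = chevE8.negIdx.getD r.val 0 then _ else _) = _
    have h5 : ¬ s.val = chevE8.negIdx.getD r.val 0 := fun e => h2 (Fin.ext e)
    rw [if_neg h1, if_neg h5, nn, Int.cast_list_sum, List.map_map]
    simp only [one_pow, mul_one]
    rfl
  have h5 := h4.symm.trans h3
  simp only [Sum.inr.injEq] at h5
  rw [br_ee_smul h, add_left_cancel h5]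

theorem hq_add (a b : Q8) : hq K (a + b) = hq K a + hq K b := by
  funext i
  rcases i with i | i <;> simp [hq]

theorem hq_neg (a : Q8) : hq K (-a) = -hq K a := by
  funext i
  rcases i with i | i <;> simp [hq]

variable (K) in
/-- the basis vectors of the subalgebra -/
def cv (i j : Fin 16) : L8 K :=
  if j = i then 0 else if j = bar i then hq K (E2 j) else (sg i j : K) • ee K (Sum.inr (rt i j))

theorem cv_self (i : Fin 16) : cv K i i = 0 := if_pos rfl

theorem cv_bar (i : Fin 16) : cv K i (bar i) = hq K (E2 (bar i)) := by rw [cv, if_neg (bar_ne i), if_pos rfl]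

theorem cv_od {i j : Fin 16} (h : Od i j) : cv K i j = (sg i j : K) • ee K (Sum.inr (rt i j)) := by
  rw [cv, if_neg h.1, if_neg h.2]

theorem od_cases (i j : Fin 16) : j = i ∨ j = bar i ∨ Od i j := by tauto

theorem cv_anti (i j : Fin 16) : cv K j i = -cv K i j := by
  rcases od_cases i j with rfl | rfl | h
  · rw [cv_self, neg_zero]
  · have h1 := cv_bar (K := K) (bar i)
    rw [bar_bar] at h1
    rw [h1, cv_bar, E2_bar, hq_neg, neg_neg]
  · rw [cv_od h, cv_od (od_symm h), (tab_rt i j h).1, (tab_rt i j h).2.1, Int.cast_neg, neg_smul]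

theorem sg_sq {i j : Fin 16} (h : Od i j) : (sg i j : K) * sg i j = 1 := by
  rw [← Int.cast_mul, (tab_rt i j h).2.2.2, Int.cast_one]

variable (K) in
/-- the right hand side of the bracket formula -/
def RR (i j k l : Fin 16) : L8 K := (if j = bar k then cv K i l else 0) - (if i = bar k then cv K j l else 0) -
  (if j = bar l then cv K i k else 0) + if i = bar l then cv K j k else 0

theorem RR_1 (i j k l : Fin 16) : RR K j i k l = -RR K i j k l := by
  unfold RR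
  abel

theorem RR_2 (i j k l : Fin 16) : RR K i j l k = -RR K i j k l := by
  unfold RR
  abel

theorem RR_3 (i j k l : Fin 16) : RR K k l i j = -RR K i j k l := by
  simp only [RR, eq_bar (i := k), eq_bar (i := l), cv_anti j k, cv_anti j l, cv_anti i k, cv_anti i l]
  split_ifs <;> abel

variable [CharP K 3]

theorem three_K : (3 : K) = 0 := by exact_mod_cast CharP.cast_eq_zero K 3

theorem hq_three (a : Q8) : hq K ((3 : ℤ) • a) = 0 := by
  funext i
  rcases i with i | i <;> simp [hq, three_K]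

theorem br_deg {i j : Fin 16} (h : j = i ∨ j = bar i) (k l : Fin 16) : br (cv K i j) (cv K k l) = RR K i j k l := by
  rcases h with rfl | rfl
  · rw [cv_self, br_zero_left, RR]
    abel
  have hb := bar_ne i
  rw [cv_bar, RR]
  simp only [bar_inj]
  rcases od_cases k l with rfl | rfl | h
  · rw [cv_self, br_zero_right]
    abel
  · rw [cv_bar, show br (hq K (E2 (bar i))) (hq K (E2 (bar k))) = 0 from funext fun m => by
      rw [br_T (inT_hq _)]
      rcases m with m | m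
      · rw [wt_inl, map_zero, zero_mul]
        rfl
      · rw [inT_hq, mul_zero]
        rfl]
    simp only [bar_bar, eq_bar (i := i) (j := k)]
    by_cases e1 : i = k
    · subst e1
      rw [if_pos rfl, if_neg hb.symm, if_neg hb.symm, if_pos rfl, cv_anti i]
      abel
    · rw [if_neg e1, if_neg e1]
      split_ifs with e2
      · rw [e2, bar_bar, cv_anti i]
        abel
      · abel
  · have h1 : (if i = k then cv K i l else 0) = (if i = k then (1 : K) else 0) • cv K k l := by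
      split_ifs with e <;> simp [e]
    have h2 : (if i = bar k then cv K (bar i) l else 0) = (if i = bar k then (1 : K) else 0) • cv K k l := by
      split_ifs with e <;> simp [e, bar_bar]
    have h3 : (if i = l then cv K i k else 0) = -(if i = l then (1 : K) else 0) • cv K k l := by
      split_ifs with e <;> simp [e, cv_anti k l]
    have h4 : (if i = bar l then cv K (bar i) k else 0) = -(if i = bar l then (1 : K) else 0) • cv K k l := by
      split_ifs with e <;> simp [e, bar_bar, cv_anti k l]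
    rw [h1, h2, h3, h4, cv_od h, br_smul_right, br_T_ee (inT_hq _), ← rl_vec, rl_hq, E2_bar, map_neg, LinearMap.neg_apply,
      B0_Er _ h]
    push_cast
    match_scalars
    linear_combination (-(sg k l : K) * (((if i = k then 1 else 0) - if i = bar k then 1 else 0) +
      ((if i = l then 1 else 0) - if i = bar l then 1 else 0))) * three_K (K := K)

theorem br_core {i j l : Fin 16} (h : Od i j) (h' : Od (bar j) l) :
    br (cv K i j) (cv K (bar j) l) = RR K i j (bar j) l := by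
  rw [RR, bar_bar, if_pos rfl, if_neg h.1.symm, if_neg fun e => h'.1 (eq_bar.1 e), sub_zero, sub_zero, cv_od h, cv_od h',
    br_smul_left, br_smul_right, smul_smul]
  rcases od_cases i l with rfl | rfl | h1
  · rw [cv_self, if_neg (bar_ne l).symm, add_zero, br_ee_zero, smul_zero]
    rw [B0_rr h h', bar_bar, if_pos rfl, if_pos rfl, if_neg h.1.symm, if_neg (bar_ne l).symm, if_neg (bar_ne j).symm,
      if_neg h.2]
    split_ifs <;> omega
  · rw [bar_bar, if_pos rfl, (tab_rt i j h).2.2.1, sg_sq h, one_smul, ← op_rt h, br_ee_op, cv_bar, cv_bar, ← hq_add, E2_bar,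
      E2_bar, ← neg_add, ← vec_rt i j h, ← zero_add (hq K (-_)), ← hq_three (vec chevE8 8 (rt i j)), ← hq_add]
    congr 1
    module
  · rw [if_neg fun e => h1.2 (eq_bar.1 e), add_zero, cv_od h1, br_nn (u := rt i l) (two_inj (by
      rw [smul_add, vec_rt i l h1, vec_rt i j h, vec_rt _ l h', E2_bar]; abel)), smul_smul, ← nn_rt i j h l h' h1]
    push_cast
    ring_nf

theorem br_cv (i j k l : Fin 16) : br (cv K i j) (cv K k l) = RR K i j k l := by
  by_cases h : Od i j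
  swap
  · exact br_deg (by tauto) k l
  by_cases h' : Od k l
  swap
  · rw [br_anti, br_deg (by (clear * - h'; tauto)), RR_3, neg_neg]
  have neg1 : ∀ x y : L8 K, br (-x) y = -br x y := fun x y => by rw [← neg_one_smul K x, br_smul_left, neg_one_smul]
  have neg2 : ∀ x y : L8 K, br x (-y) = -br x y := fun x y => by rw [← neg_one_smul K y, br_smul_right, neg_one_smul]
  by_cases e1 : k = bar j
  · subst e1
    exact br_core h h'
  by_cases e2 : k = bar i
  · subst e2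
    rw [cv_anti j i, neg1, br_core (od_symm h) h', RR_1, neg_neg]
  by_cases e3 : l = bar j
  · subst e3
    rw [cv_anti (bar j) k, neg2, br_core h (od_symm h'), RR_2, neg_neg]
  by_cases e4 : l = bar i
  · subst e4
    rw [cv_anti j i, cv_anti (bar i) k, neg1, neg2, br_core (od_symm h) (od_symm h'), RR_1, RR_2, neg_neg, neg_neg]
  have k1 : ¬ j = bar k := fun e => e1 (eq_bar.1 e)
  have k2 : ¬ i = bar k := fun e => e2 (eq_bar.1 e)
  have k3 : ¬ j = bar l := fun e => e3 (eq_bar.1 e)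
  have k4 : ¬ i = bar l := fun e => e4 (eq_bar.1 e)
  rw [RR, if_neg k1, if_neg k2, if_neg k3, if_neg k4, cv_od h, cv_od h', br_smul_left, br_smul_right, br_ee_zero]
  · simp
  · rw [B0_rr h h', if_neg k1, if_neg k2, if_neg k3, if_neg k4]
    split_ifs <;> (clear * -; omega)

/-! ### the natural module -/

/-- the natural module -/
abbrev V16 (K : Type u) : Type u := Fin 16 → K

variable (K) in
/-- the standard basis -/
def vb (i : Fin 16) : V16 K := Pi.single i 1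

variable (K) in
/-- the form -/
def fm : V16 K →ₗ[K] V16 K →ₗ[K] K := ∑ i, (LinearMap.proj i).smulRight (LinearMap.proj (bar i))

variable (K) in
/-- the exterior product -/
noncomputable def be : V16 K →ₗ[K] V16 K →ₗ[K] L8 K :=
  ∑ i, ∑ j, (LinearMap.proj i).smulRight ((LinearMap.proj j).smulRight (cv K i j))

section

omit [CharP K 3]

theorem vb_apply (i j : Fin 16) : vb K i j = if j = i then 1 else 0 := Pi.single_apply _ _ _

theorem fm_apply (x y : V16 K) : fm K x y = ∑ i, x i * y (bar i) := by simp only [fm, LinearMap.sum_apply, _root_.LinearMap.coe_smulRight, _root_.LinearMap.coe_proj, _root_.Function.eval, _root_.LinearMap.smul_apply, _root_.smul_eq_mul]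

theorem be_apply (x y : V16 K) : be K x y = ∑ i, ∑ j, x i • y j • cv K i j := by simp only [be, LinearMap.sum_apply, _root_.LinearMap.coe_smulRight, _root_.LinearMap.coe_proj, _root_.Function.eval, _root_.LinearMap.smul_apply]

theorem fm_vb (i : Fin 16) (y : V16 K) : fm K (vb K i) y = y (bar i) := by simp [fm_apply, vb_apply]

theorem fm_comm (x y : V16 K) : fm K x y = fm K y x := by
  rw [fm_apply, fm_apply, ← Equiv.sum_comp (Function.Involutive.toPerm bar bar_bar)]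
  refine Finset.sum_congr rfl fun i _ => ?_
  change x (bar i) * y (bar (bar i)) = _
  rw [bar_bar, mul_comm]

theorem fm_vb' (i : Fin 16) (y : V16 K) : fm K y (vb K i) = y (bar i) := by rw [fm_comm, fm_vb]

theorem fm_nd {x : V16 K} (h : ∀ y, fm K x y = 0) : x = 0 := funext fun i => by
  rw [← bar_bar i, ← fm_vb' (bar i) x, h]
  rfl

theorem be_vb (i j : Fin 16) : be K (vb K i) (vb K j) = cv K i j := by simp [be_apply, vb_apply]

theorem be_anti (x y : V16 K) : be K y x = -be K x y := by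
  rw [be_apply, be_apply, Finset.sum_comm, ← Finset.sum_neg_distrib]
  refine Finset.sum_congr rfl fun i _ => ?_
  rw [← Finset.sum_neg_distrib]
  exact Finset.sum_congr rfl fun j _ => by rw [cv_anti, smul_comm, smul_neg, smul_neg]

theorem ind {P : V16 K → Prop} (h0 : ∀ i, P (vb K i)) (ha : ∀ x y, P x → P y → P (x + y)) (hs : ∀ (c : K) x, P x → P (c • x))
    (x : V16 K) : P x := by
  rw [pi_eq_sum_univ' x]
  refine Finset.sum_induction _ P ha ?_ fun i _ => hs _ _ (h0 i)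
  rw [← zero_smul K (vb K 0)]
  exact hs _ _ (h0 0)

theorem cv_rt (k l : Fin 16) {i j : Fin 16} (h : Od i j) : cv K k l (Sum.inr (rt i j)) =
    (sg i j : K) * (vb K k i * vb K l j - vb K k j * vb K l i) := by
  rw [vb_apply, vb_apply, vb_apply, vb_apply]
  by_cases e1 : i = k ∧ j = l
  · obtain ⟨rfl, rfl⟩ := e1
    simp [cv_od h, ee_self, h.1]
  by_cases e2 : i = l ∧ j = k
  · obtain ⟨rfl, rfl⟩ := e2
    simp [cv_anti i j, cv_od h, ee_self, h.1]
  rw [show cv K k l (Sum.inr (rt i j)) = 0 by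
    rcases od_cases k l with rfl | rfl | h'
    · rw [cv_self]
      rfl
    · rw [cv_bar, inT_hq]
    · rw [cv_od h', Pi.smul_apply, ee_ne fun e => (rt_inj h h' (Sum.inr.inj e)).elim e1 e2, smul_zero]]
  split_ifs <;> simp_all

theorem be_rt (x y : V16 K) {i j : Fin 16} (h : Od i j) :
    be K x y (Sum.inr (rt i j)) = (sg i j : K) * (x i * y j - x j * y i) := by
  induction x using ind with
  | h0 k =>
    induction y using ind with
    | h0 l => rw [be_vb, cv_rt k l h]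
    | ha y y' h1 h2 => simp only [map_add, Pi.add_apply, h1, h2]; ring
    | hs c y h1 => simp only [map_smul, Pi.smul_apply, h1, smul_eq_mul]; ring
  | ha x x' h1 h2 => simp only [map_add, LinearMap.add_apply, Pi.add_apply, h1, h2]; ring
  | hs c x h1 => simp only [map_smul, LinearMap.smul_apply, Pi.smul_apply, h1, smul_eq_mul]; ring

end

theorem be_self (x : V16 K) : be K x x = 0 := by
  have h := be_anti x x
  have h3 : (3 : K) • be K x x = 0 := by rw [three_K, zero_smul]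
  have h4 : (3 : K) • be K x x = be K x x + (be K x x - -be K x x) := by module
  rwa [h3, ← h, sub_self, add_zero, eq_comm] at h4

theorem rl_be (x y : V16 K) (m : Fin 16) : rl (be K x y) (E2 m) = x (bar m) * y m - x m * y (bar m) := by
  induction x using ind with
  | h0 k =>
    induction y using ind with
    | h0 l =>
      rw [be_vb, vb_apply, vb_apply, vb_apply, vb_apply]
      have := bar_ne m
      have := bar_bar m
      rcases od_cases k l with rfl | rfl | h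
      · rw [cv_self, rl_zero]
        ring
      · rw [cv_bar, rl_hq, B0_E]
        simp only [bar_inj, eq_bar (i := m) (j := k), eq_comm (a := bar k) (b := m), eq_comm (a := bar m) (b := k),
          eq_comm (a := k) (b := m)]
        push_cast
        split_ifs with e1 e2
        · exact absurd (e1.symm.trans e2.symm) (bar_ne m)
        · linear_combination three_K (K := K)
        · linear_combination -three_K (K := K)
        · ring
      · rw [cv_od h, rl_smul, rl_ee, mul_zero]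
        have h1 : ¬ (bar m = k ∧ m = l) := fun e => h.2 (by rw [← e.1, ← e.2, bar_bar])
        have h2 : ¬ (m = k ∧ bar m = l) := fun e => h.2 (by rw [← e.1, ← e.2])
        rw [ite_zero_mul_ite_zero, ite_zero_mul_ite_zero, if_neg h1, if_neg h2, sub_self]
    | ha y y' h1 h2 => simp only [map_add, rl_add, Pi.add_apply, h1, h2]; ring
    | hs c y h1 => simp only [map_smul, rl_smul, Pi.smul_apply, h1, smul_eq_mul]; ring
  | ha x x' h1 h2 => simp only [map_add, LinearMap.add_apply, rl_add, Pi.add_apply, h1, h2]; ring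
  | hs c x h1 => simp only [map_smul, LinearMap.smul_apply, rl_smul, Pi.smul_apply, h1, smul_eq_mul]; ring

theorem be_inj {x y x' y' : V16 K} (h : be K x y = be K x' y') (i j : Fin 16) :
    x i * y j - x j * y i = x' i * y' j - x' j * y' i := by
  rcases od_cases i j with rfl | rfl | e
  · ring
  · have h1 := rl_be x y i
    rw [h, rl_be] at h1
    linear_combination h1
  · have h1 := be_rt x y e
    rw [h, be_rt _ _ e] at h1
    linear_combination (-(sg i j : K)) * h1 - (x i * y j - x j * y i - (x' i * y' j - x' j * y' i)) *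
      sg_sq (K := K) e

theorem be_eq_zero {x y : V16 K} (h : be K x y = 0) (i j : Fin 16) : x i * y j = x j * y i := by
  have h1 := be_inj (x' := 0) (y' := 0) (h.trans (be_self (K := K) 0).symm) i j
  simp only [Pi.zero_apply, mul_zero, sub_self] at h1
  exact sub_eq_zero.1 h1

theorem br_be (a b c d : V16 K) : br (be K a b) (be K c d) =
    fm K b c • be K a d - fm K a c • be K b d - fm K b d • be K a c + fm K a d • be K b c := by
  induction a using ind with
  | h0 i =>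
    induction b using ind with
    | h0 j =>
      induction c using ind with
      | h0 k =>
        induction d using ind with
        | h0 l =>
          simp only [be_vb, fm_vb', vb_apply, br_cv, RR, eq_comm (a := bar k), eq_comm (a := bar l), ite_smul, one_smul,
            zero_smul]
        | ha y y' h1 h2 => simp only [map_add, br_add_right, h1, h2]; module
        | hs c y h1 => simp only [map_smul, br_smul_right, h1, smul_eq_mul]; module
      | ha x x' h1 h2 => simp only [map_add, LinearMap.add_apply, br_add_right, h1, h2]; module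
      | hs c x h1 => simp only [map_smul, LinearMap.smul_apply, br_smul_right, h1, smul_eq_mul]; module
    | ha y y' h1 h2 => simp only [map_add, LinearMap.add_apply, br_add_left, h1, h2]; module
    | hs c y h1 => simp only [map_smul, LinearMap.smul_apply, br_smul_left, h1, smul_eq_mul]; module
  | ha x x' h1 h2 => simp only [map_add, LinearMap.add_apply, br_add_left, h1, h2]; module
  | hs c x h1 => simp only [map_smul, LinearMap.smul_apply, br_smul_left, h1, smul_eq_mul]; module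

end Cfsg.Agent.E8A.D44

private theorem dce_d81d650acb4d : _root_.True := by
  try have : _root_.True := by simp only [_root_.Cfsg.Agent.E8A.D44.nn.eq_1]
  try have : _root_.True := by simp only [_root_.Cfsg.Agent.E8A.D44.be.eq_1]
  try have : _root_.True := by simp only [_root_.Cfsg.Agent.E8A.D44.fm.eq_1]
  try have : _root_.True := by simp only [_root_.Cfsg.Agent.E8A.TwoH.hq.eq_1]
  try have : _root_.True := by simp only [_root_.Cfsg.Agent.E8A.D44.RR.eq_1]
  try have : _root_.True := by simp only [_root_.Cfsg.Agent.E8A.D44.cv.eq_1]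
  exact _root_.True.intro
end

-- part: E8A/D44/Iface2
section
set_option linter.all false

/-!
# D44: elements which act through the orthogonal group, boxes (helper43)
-/

set_option autoImplicit false

namespace Cfsg.Agent.E8A.D44

open Cfsg Cfsg.Lie Module
open Cfsg.Agent.E8A.Reg5.Cls (dz)
open Cfsg.Agent.E8A.C63 (fd NoPar)

universe u

/-- `g` acts on the subalgebra through the orthogonal map `M` -/
structure Lk {K : Type u} [Field K] (g : G8 K) (M : Module.End K (V16 K)) : Prop where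
  orth : ∀ x y, fm K (M x) (M y) = fm K x y
  act : ∀ x y, act g (be K x y) = be K (M x) (M y)

/-- **NF**: the normal form of the four-group -/
def NF : Prop := ∀ (F : Type u) [Field F] [Finite F] [CharP F 3] (s t : G8 (Kb F)), s ^ 2 = 1 → t ^ 2 = 1 → Commute s t →
  fd s = 120 → fd t = 120 → fd (s * t) = 120 → ∃ (c : G8 (Kb F)) (I : Finset (Fin 16)),
    mx (c * s * c⁻¹) = dz (-1) (Pi.single 0 1) ∧ I.card = 8 ∧ (∀ i, bar i ∈ I ↔ i ∈ I) ∧
    ∀ i j, act (c * t * c⁻¹) (cv (Kb F) i j) = if (i ∈ I ↔ j ∈ I) then cv (Kb F) i j else -cv (Kb F) i j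

/-- **NS**: no totally singular invariant subspace -/
def NS : Prop := ∀ (F : Type u) [Field F] [Finite F] [CharP F 3] (ψ : Alt 6 →* G8 (Kb F)), NoPar ψ →
  ∀ σ : Alt 6 → Module.End (Kb F) (V16 (Kb F)), (∀ a, Lk (ψ a) (σ a)) → ∀ S : Submodule (Kb F) (V16 (Kb F)), S ≠ ⊥ →
  (∀ a, ∀ x ∈ S, σ a x ∈ S) → (∀ x ∈ S, ∀ y ∈ S, fm (Kb F) x y = 0) → False

/-- **LIFT**: the centralizer of the standard involution -/
def LIFT : Prop := ∀ (F : Type u) [Field F] [Finite F] [CharP F 3] (z g : G8 (Kb F)), mx z = dz (-1) (Pi.single 0 1) →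
  Commute g z → ∃ M, Lk g M

end Cfsg.Agent.E8A.D44
end

-- part: E8A/D44/Link
section
prune_inst 0x7f00000000000000000000000000000000000000000000000000000000000000000000000000000000000000000000000000000000000000000000000000000000000000000000000000000000000000003fffffffffffffffffffffffffffbeffbdffffffff
set_option linter.all false
open scoped Cfsg.Agent.FastGrp

/-!
# D44: the elements which act through the orthogonal group (helper43)

* `Lk.one`, `Lk.mul`, `Lk.neg`, `Lk.inj`, `Lk.surj`, `Lk.inv`, `Lk.uniq`;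
* `TT a b`, `lk_xr` (root elements), `lk_diag`, `lk_mc` (the torus); `lift : LIFT`.
-/

set_option autoImplicit false
set_option maxRecDepth 100000

namespace Cfsg.Agent.E8A.D44

open CoxeterSystem Cfsg Cfsg.Lie Module
open Cfsg.Agent.ChevalleyStructure Cfsg.Agent.ChevalleyStructure.CoxeterGeom
  Cfsg.Agent.ChevalleyStructure.CoxeterGeomTypes
open Cfsg.Agent.Tits.Roots Cfsg.Agent.Nodes.Reps Cfsg.Agent.Nodes.BNOf Cfsg.Agent.Nodes.RGDChev
open Cfsg.Agent.KFacts.RgdChevCoord Cfsg.Agent.H129.TorusChar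
open Cfsg.Agent.H942.E8Tab (e8T)
open Cfsg.Agent.H288.E8L (Q8 wt wt_inl wt_inr)
open Cfsg.Agent.E8A.Par (op kf_ee act_xr)
open Cfsg.Agent.E8A.Reg5.Cls (ex dz)
open Cfsg.Agent.E8A.Two Cfsg.Agent.E8A.TwoH

universe u

variable {K : Type u} [Field K]

namespace Lk

variable {g g' : G8 K} {M N : Module.End K (V16 K)}

seal _root_.Finset.sum in
theorem one : Lk (1 : G8 K) 1 := ⟨fun _ _ => rfl, fun _ _ => act_one _⟩

theorem mul (h : Lk g M) (h' : Lk g' N) : Lk (g * g') (M * N) :=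
  ⟨fun x y => ((h.orth _ _).trans (h'.orth x y) :), fun x y => by rw [act_mul, h'.act, h.act]; rfl⟩

theorem inj (h : Lk g M) : Function.Injective M :=
  (injective_iff_map_eq_zero M).2 fun x hx => fm_nd fun y => by rw [← h.orth, hx, map_zero, LinearMap.zero_apply]

theorem surj (h : Lk g M) : Function.Surjective M := LinearMap.injective_iff_surjective.1 h.inj

theorem inv (h : Lk g M) : ∃ M', Lk g⁻¹ M' ∧ (∀ x, M (M' x) = x) ∧ ∀ x, M' (M x) = x := by
  let e := LinearEquiv.ofBijective M ⟨h.inj, h.surj⟩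
  have h1 : ∀ x, M (e.symm x) = x := e.apply_symm_apply
  refine ⟨e.symm.toLinearMap, ⟨fun x y => ?_, fun x y => ?_⟩, h1, e.symm_apply_apply⟩
  · rw [← h.orth]
    exact congrArg₂ (fun a b => fm K a b) (h1 x) (h1 y)
  · conv_lhs => rw [← h1 x, ← h1 y, ← h.act, act_inv]
    rfl

end Lk

/-- the elements which act through the orthogonal group -/
def CS : Subgroup (G8 K) where
  carrier := {g | ∃ M, Lk g M}
  one_mem' := ⟨_, Lk.one⟩
  mul_mem' := fun ⟨_, h⟩ ⟨_, h'⟩ => ⟨_, h.mul h'⟩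
  inv_mem' := fun ⟨_, h⟩ => h.inv.imp fun _ h' => h'.1

/-- the skew endomorphism of `a ∧ b` -/
def TT (a b : V16 K) : Module.End K (V16 K) := (fm K b).smulRight a - (fm K a).smulRight b

theorem TT_apply (a b x : V16 K) : TT a b x = fm K b x • a - fm K a x • b := rfl

theorem fm_od {i j : Fin 16} (h : Od i j) : fm K (vb K i) (vb K j) = 0 := by rw [fm_vb, vb_apply, if_neg h.2.symm]

theorem fm_vv (i : Fin 16) : fm K (vb K i) (vb K i) = 0 := by rw [fm_vb, vb_apply, if_neg (bar_ne i)]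

theorem lk_diag {g : G8 K} {d : Fin 16 → K} (hd : ∀ i, d i * d (bar i) = 1)
    (h : ∀ i j, act g (cv K i j) = (d i * d j) • cv K i j) : Lk g (LinearMap.mulLeft K d) := by
  refine ⟨fun x y => ?_, fun x y => ?_⟩
  · rw [fm_apply, fm_apply]
    refine Finset.sum_congr rfl fun i _ => ?_
    show d i * x i * (d (bar i) * y (bar i)) = _
    linear_combination x i * y (bar i) * hd i
  · rw [be_apply, be_apply, act_sum]
    refine Finset.sum_congr rfl fun i _ => ?_
    rw [act_sum]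
    refine Finset.sum_congr rfl fun j _ => ?_
    rw [act_smul, act_smul, h]
    show _ = (d i * x i) • (d j * y j) • cv K i j
    module

/-- the weights of the natural module, shifted into the root lattice -/
def F2 (i : Fin 16) : Q8 := fun k => (E2 0 k + E2 i k) / 2

theorem two_F2 : ∀ i, (2 : ℤ) • F2 i = E2 0 + E2 i := by decide +kernel

theorem lk_mc [IsAlgClosed K] {t : G8 K} {φ : Q8 → K} (hφ : IsMC φ) (ht : ∀ v i, act t v i = φ (wt i) * v i) :
    ∃ M, Lk t M := by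
  obtain ⟨s, hs⟩ := IsAlgClosed.exists_pow_nat_eq (φ (E2 0)) two_pos
  have h0 := hφ.ne_zero (E2 0)
  have key : ∀ i j a, (2 : ℤ) • a = E2 i + E2 j → φ (F2 i) / s * (φ (F2 j) / s) = φ a := fun i j a ha => by
    rw [div_mul_div_comm, ← sq, hs, ← hφ.add, show F2 i + F2 j = a + E2 0 from two_inj (by
      rw [smul_add, smul_add, two_F2, two_F2, ha, two_smul]; abel), hφ.add, mul_div_cancel_right₀ _ h0]
  have k0 : ∀ i, φ (F2 i) / s * (φ (F2 (bar i)) / s) = 1 := fun i => by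
    rw [key i _ 0 (by rw [E2_bar, add_neg_cancel, smul_zero]), hφ.zero]
  refine ⟨_, lk_diag (d := fun i => φ (F2 i) / s) k0 fun i j => funext fun m => ?_⟩
  rw [ht, Pi.smul_apply, smul_eq_mul]
  rcases od_cases i j with rfl | rfl | h
  · rw [cv_self, Pi.zero_apply, mul_zero, mul_zero]
  · rw [k0, cv_bar]
    rcases m with m | r
    · rw [wt_inl, hφ.zero]
    · rw [inT_hq, mul_zero, mul_zero]
  · rw [key i j _ (vec_rt i j h), cv_od h, Pi.smul_apply]
    by_cases e : m = Sum.inr (rt i j)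
    · rw [e, wt_inr]
    · rw [ee_ne e, smul_zero, mul_zero, mul_zero]

variable [CharP K 3]

theorem br_TT (a b x y : V16 K) : br (be K a b) (be K x y) = be K (TT a b x) y + be K x (TT a b y) := by
  rw [br_be, TT_apply, TT_apply]
  simp only [map_sub, map_smul, LinearMap.sub_apply, LinearMap.smul_apply, be_anti a x, be_anti b x]
  module

theorem lk_xr {i j : Fin 16} (h : Od i j) (t : K) :
    Lk (xr (rt i j) t) (1 + (t * sg i j) • TT (vb K i) (vb K j)) := by
  have h1 := sg_sq (K := K) h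
  refine ⟨fun x y => ?_, fun x y => ?_⟩
  · simp only [LinearMap.add_apply, Module.End.one_apply, LinearMap.smul_apply, TT_apply, map_add, map_sub, map_smul,
      LinearMap.sub_apply, smul_eq_mul, fm_od h, fm_od (od_symm h), fm_vv, fm_comm x (vb K i), fm_comm x (vb K j)]
    ring
  · have h2 : ee K (Sum.inr (rt i j)) = (sg i j : K) • be K (vb K i) (vb K j) := by
      rw [be_vb, cv_od h, smul_smul, h1, one_smul]
    rw [act_xr, kf_ee, op_rt h, be_rt _ _ (od_bar h), (tab_rt i j h).2.2.1, h2, br_smul_left, br_TT]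
    have h3 : be K (TT (vb K i) (vb K j) x) (TT (vb K i) (vb K j) y) =
        -(x (bar j) * y (bar i) - x (bar i) * y (bar j)) • be K (vb K i) (vb K j) := by
      simp only [TT_apply, map_sub, map_smul, LinearMap.sub_apply, LinearMap.smul_apply, be_self, fm_vb,
        be_anti (vb K i) (vb K j)]
      module
    simp only [LinearMap.add_apply, Module.End.one_apply, LinearMap.smul_apply, map_add, map_smul, h3]
    module

theorem Lk.pm {N : Module.End K (V16 K)} (h : Lk (1 : G8 K) N) : N = 1 ∨ N = -1 := by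
  have h1 : ∀ k l i j, N (vb K k) i * N (vb K l) j - N (vb K k) j * N (vb K l) i =
      vb K k i * vb K l j - vb K k j * vb K l i := fun k l i j => be_inj (by rw [← h.act, act_one]) i j
  have h2 : ∀ k l, k ≠ l → N (vb K k) k * N (vb K l) l - N (vb K k) l * N (vb K l) k = 1 := fun k l e => by
    rw [h1, vb_apply, vb_apply, vb_apply, if_pos rfl, if_pos rfl, if_neg e.symm, zero_mul, mul_one, sub_zero]
  have h3 : ∀ k i, i ≠ k → N (vb K k) i = 0 := fun k i e => by
    obtain ⟨l, l1, l2⟩ : ∃ l, l ≠ k ∧ l ≠ i := by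
      revert k i
      decide +kernel
    have e1 := h1 k l i l
    have e2 := h1 k l k i
    simp only [vb_apply, if_neg e, if_neg l1, if_neg l2.symm, zero_mul, mul_zero, sub_zero] at e1 e2
    linear_combination N (vb K k) k * e1 + N (vb K k) l * e2 - N (vb K k) i * h2 k l l1.symm
  have h4 : ∀ k l, k ≠ l → N (vb K k) k * N (vb K l) l = 1 := fun k l e => by
    rw [← h2 k l e, h3 k l e.symm, zero_mul, sub_zero]
  have h5 : ∀ k, N (vb K k) k = N (vb K 0) 0 := fun k => by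
    obtain ⟨l, l1, l2⟩ : ∃ l, l ≠ k ∧ l ≠ 0 := by
      revert k
      decide
    linear_combination N (vb K 0) 0 * h4 l k l1 - N (vb K k) k * h4 l 0 l2
  have h6 : ∀ x, N x = N (vb K 0) 0 • x := fun x => by
    induction x using ind with
    | h0 k =>
      funext i
      rw [Pi.smul_apply, vb_apply k i, smul_eq_mul]
      split_ifs with e
      · rw [e, h5, mul_one]
      · rw [h3 k i e, mul_zero]
    | ha x y e1 e2 => rw [map_add, e1, e2, smul_add]
    | hs c x e1 => rw [map_smul, e1, smul_comm]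
  have h7 := h4 0 1 (by decide)
  rw [h5 1, mul_self_eq_one_iff] at h7
  exact h7.imp (fun e => LinearMap.ext fun x => by rw [h6, e, one_smul]; rfl) fun e => LinearMap.ext fun x => by
    rw [h6, e, neg_one_smul]; rfl

theorem Lk.uniq {g : G8 K} {M N : Module.End K (V16 K)} (h : Lk g M) (h' : Lk g N) : N = M ∨ N = -M := by
  obtain ⟨M', h1, h2, -⟩ := h.inv
  have h3 := h1.mul h'
  rw [inv_mul_cancel] at h3
  refine h3.pm.imp (fun e => LinearMap.ext fun x => ?_) fun e => LinearMap.ext fun x => ?_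
  · exact (h2 _).symm.trans (congrArg M (LinearMap.congr_fun e x))
  · exact (h2 _).symm.trans ((congrArg M (LinearMap.congr_fun e x)).trans (map_neg M x))

theorem lift : LIFT.{u} := by
  intro F _ _ _ t g ht hg
  have : CharP (Kb F) 3 := charP_of_injective_algebraMap (algebraMap F (Kb F)).injective 3
  have : Fact (Nat.Prime 3) := ⟨Nat.prime_three⟩
  have hω : IsPrimitiveRoot (-1 : Kb F) 2 := IsPrimitiveRoot.neg_one 3 (by norm_num)
  have h0 := hω.ne_zero (by norm_num)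
  have h3 : t ^ 2 = 1 := Par.ext_act fun v => funext fun i => by
    rw [sq, act_mul, act_dz ht, act_dz ht, act_one, ← mul_assoc, ← mul_zpow, neg_one_mul, neg_neg, one_zpow, one_mul]
  obtain ⟨t', ht', e⟩ := exists_tz h0 (Pi.single 0 1)
  obtain rfl : t = t' := mx_injective (ht.trans e.symm)
  have hFinW : Finite CoxeterMatrix.E₈.Group := finite_W e8T CoxeterMatrix.E₈.toCoxeterSystem
  have hFrm := H897.T5UntwRow.par8.frm (CoxeterMatrix.E₈.toCoxeterSystem) e8T.isCartan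
    (fun i j => (H897.T5UntwRow.n8 i j).1) (fun i j => (H897.T5UntwRow.n8 i j).2)
  have hcon := H897.T5Cent.con_of_frm e8T CoxeterMatrix.E₈.toCoxeterSystem (locFinKb F) 3 Nat.prime_two (by norm_num)
    BpExc.FamInst.inv_E8 (Nat.coprime_one_left _) hFrm
  obtain ⟨m, hm, s, hs, rfl⟩ := H897.T5Cent.cent_form e8T CoxeterMatrix.E₈.toCoxeterSystem (locFinKb F) 3 hcon ht' h3 hg.eq
  refine mul_mem (S := Subgroup _) (s := CS) (sup_le_of (fun a ha => ha.1) (fun r hr c => ?_) hm)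
    (lk_mc (isMC_cX e8T hs) (act_TT hs))
  have h1 := hr.2 t rfl
  have h2 := congrFun (congrFun ((mx_TT ht').symm.trans ht) (Sum.inr r)) (Sum.inr r)
  rw [dz, Matrix.diagonal_apply_eq, Matrix.diagonal_apply_eq, wt_inr, cX_root e8T _ ht' hr.1, h1, eq_comm,
    hω.zpow_eq_one_iff_dvd, ex_single] at h2
  obtain ⟨i, j, hij, rfl⟩ := exists_rt r h2
  exact ⟨_, lk_xr hij c⟩

end Cfsg.Agent.E8A.D44
end

-- part: E8A/D44/Ns
section
prune_inst 0x7f00000000000000000000000000000000000000000000000000000000000000000000000000000000000000000000000000000000000000000000000000000000000000000000000000000000000000003fffffffffffffffffffffffffffbeffbdffffffff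
set_option linter.all false
open scoped Cfsg.Agent.FastGrp

/-!
# D44: the box NS (helper5)

* `Ns.lk_step`, `Ns.red` : root elements move a singular vector to a basis vector; `Ns.ext` : `a ∧ b` is extremal;
* `Ns.parx` : no extremal vector commutes with all its conjugates; `ns : NS`.
-/

set_option autoImplicit false
set_option maxRecDepth 100000

namespace Cfsg.Agent.E8A.D44

open Cfsg Cfsg.Lie Module
open Cfsg.Agent.E8A.C63 (NoPar)
open Cfsg.Agent.E8A.Par (Extr act_xr kf_ee ux_ne_one ux_pow conj_ux ux_comm orbit_group finite_closure exists_par_of_pgroup)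

universe u

namespace Ns

section

variable {K : Type u} [Field K]

variable (K) in
/-- the linear part of a root element -/
def tt (i j : Fin 16) : Module.End K (V16 K) :=
  (LinearMap.proj (bar j)).smulRight (vb K i) - (LinearMap.proj (bar i)).smulRight (vb K j)

theorem st_apply (i j : Fin 16) (t : K) (x : V16 K) :
    (1 + t • tt K i j) x = x + t • (x (bar j) • vb K i - x (bar i) • vb K j) := rfl

theorem lk_mul {g g' : G8 K} {M M' : Module.End K (V16 K)} (h : Lk g M) (h' : Lk g' M') : Lk (g * g') (M * M') :=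
  ⟨fun x y => by rw [Module.End.mul_apply, Module.End.mul_apply, h.orth, h'.orth],
    fun x y => by rw [act_mul, h'.act, h.act]; rfl⟩

seal _root_.Finset.sum in
theorem lk_one : Lk (1 : G8 K) 1 := ⟨fun _ _ => rfl, fun _ _ => act_one _⟩

variable [CharP K 3]

theorem lk_step {i j : Fin 16} (h : Od i j) (t : K) : Lk (xr (rt i j) (t * sg i j)) (1 + t • tt K i j) := by
  have h1 : vb K i (bar i) = 0 := by rw [vb_apply, if_neg (bar_ne i)]
  have h2 : vb K j (bar j) = 0 := by rw [vb_apply, if_neg (bar_ne j)]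
  have h3 : vb K j (bar i) = 0 := by rw [vb_apply, if_neg (Ne.symm h.2)]
  have h4 : vb K i (bar j) = 0 := by rw [vb_apply, if_neg (Ne.symm (od_symm h).2)]
  refine ⟨fun x y => ?_, fun x y => ?_⟩
  · rw [st_apply, st_apply]
    simp only [map_add, map_sub, map_smul, LinearMap.add_apply, LinearMap.sub_apply, LinearMap.smul_apply,
      fm_vb, fm_vb', h1, h2, h3, h4, smul_eq_mul]
    ring
  · have e1 : ee K (Sum.inr (rt i j)) = (sg i j : K) • be K (vb K i) (vb K j) := by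
      rw [be_vb, cv_od h, smul_smul, sg_sq h, one_smul]
    rw [act_xr, kf_ee, op_rt h, be_rt _ _ (od_bar h), (tab_rt i j h).2.2.1, e1, br_smul_left, br_be, st_apply, st_apply]
    simp only [map_add, map_sub, map_smul, LinearMap.add_apply, LinearMap.sub_apply, LinearMap.smul_apply,
      fm_vb, be_self, be_anti (vb K i) (vb K j), be_anti (vb K i) x, be_anti (vb K j) x]
    have h5 := sg_sq (K := K) h
    generalize (sg i j : K) = s at h5
    have h6 : s * s * (s * s) = 1 := by rw [h5, mul_one]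
    match_scalars
    · ring
    · linear_combination (t * x (bar j)) * h5
    · linear_combination (-t * x (bar i)) * h5
    · linear_combination (-t * y (bar j)) * h5
    · linear_combination (t * y (bar i)) * h5
    · linear_combination (-(t ^ 2 * (x (bar j) * y (bar i) - x (bar i) * y (bar j)))) * h6

theorem red (i : Fin 16) (J : Finset (Fin 16)) : ∀ a : V16 K, a i ≠ 0 → fm K a a = 0 → (∀ j, Od i j → a j ≠ 0 → j ∈ J) →
    ∃ g M, Lk g M ∧ M a = a i • vb K i ∧ ∀ x, x i = 0 → (∀ j ∈ J, x (bar j) = 0) → M x = x := by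
  induction J using Finset.induction_on with
  | empty =>
    intro a hi h0 hJ
    have h1 : a = a i • vb K i + a (bar i) • vb K (bar i) := funext fun j => by
      rw [Pi.add_apply, Pi.smul_apply, Pi.smul_apply, vb_apply, vb_apply]
      rcases od_cases i j with rfl | rfl | h
      · rw [if_pos rfl, if_neg (bar_ne j).symm, smul_zero, add_zero, smul_eq_mul, mul_one]
      · rw [if_neg (bar_ne i), if_pos rfl, smul_zero, zero_add, smul_eq_mul, mul_one]
      · rw [if_neg h.1, if_neg h.2, smul_zero, smul_zero, add_zero]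
        exact of_not_not fun e => Finset.notMem_empty j (hJ j h e)
    have h2 : a (bar i) = 0 := by
      nth_rw 1 [h1] at h0
      simp only [map_add, map_smul, LinearMap.add_apply, LinearMap.smul_apply, fm_vb, bar_bar, smul_eq_mul] at h0
      refine (mul_eq_zero.1 (?_ : a i * a (bar i) = 0)).resolve_left hi
      linear_combination (-1 : K) * h0 + a i * a (bar i) * three_K (K := K)
    rw [h2, zero_smul, add_zero] at h1
    exact ⟨1, 1, lk_one, h1, fun _ _ _ => rfl⟩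
  | insert j J _ ih =>
    intro a hi h0 hJ
    by_cases h : Od i j
    · have h' : Od j (bar i) := ⟨Ne.symm h.2, fun e => h.1 (bar_inj.1 e).symm⟩
      have L := lk_step h' (-(a j / a i))
      have hc : ∀ k, k ≠ bar i → (1 + -(a j / a i) • tt K j (bar i)) a k = if k = j then 0 else a k := fun k hk => by
        rw [st_apply, bar_bar, Pi.add_apply, Pi.smul_apply, Pi.sub_apply, Pi.smul_apply, Pi.smul_apply, vb_apply, vb_apply,
          if_neg hk]
        split_ifs with e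
        · rw [e]
          simp only [smul_eq_mul]
          field_simp
          ring
        · simp
      have hi' := hc i (bar_ne i).symm
      rw [if_neg h.1.symm] at hi'
      obtain ⟨g, M, h1, h2, h3⟩ := ih ((1 + -(a j / a i) • tt K j (bar i)) a) (by rwa [hi']) (by rw [L.orth, h0]) fun k hk e => by
        rw [hc k hk.2] at e
        split_ifs at e with e'
        · exact absurd rfl e
        · exact (Finset.mem_insert.1 (hJ k hk e)).resolve_left e'
      refine ⟨_, _, lk_mul h1 L, by rw [Module.End.mul_apply, h2, hi'], fun x x1 x2 => ?_⟩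
      rw [Module.End.mul_apply, st_apply, bar_bar, x1, x2 j (Finset.mem_insert_self _ _), zero_smul, zero_smul, sub_self,
        smul_zero, add_zero]
      exact h3 x x1 fun k hk => x2 k (Finset.mem_insert_of_mem hk)
    · obtain ⟨g, M, h1, h2, h3⟩ := ih a hi h0 fun k hk e =>
        (Finset.mem_insert.1 (hJ k hk e)).resolve_left fun e' => h (e' ▸ hk)
      exact ⟨g, M, h1, h2, fun x x1 x2 => h3 x x1 fun k hk => x2 k (Finset.mem_insert_of_mem hk)⟩

/-- the product of two orthogonal singular vectors is extremal -/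
theorem ext {a b : V16 K} (ha : fm K a a = 0) (hb : fm K b b = 0) (hab : fm K a b = 0) (h0 : be K a b ≠ 0) :
    Extr (be K a b) := by
  classical
  obtain ⟨i, hi⟩ : ∃ i, a i ≠ 0 := Function.ne_iff.1 fun e : a = 0 => h0 (by rw [e, map_zero, LinearMap.zero_apply])
  obtain ⟨g, M, L, h2, -⟩ := red i Finset.univ a hi ha fun _ _ _ => Finset.mem_univ _
  have h3 : M b (bar i) = 0 := by
    rw [← L.orth, h2, map_smul, LinearMap.smul_apply, fm_vb, smul_eq_mul] at hab
    exact (mul_eq_zero.1 hab).resolve_left hi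
  obtain ⟨c, hc⟩ : ∃ c, c = M b - M b i • vb K i := ⟨_, rfl⟩
  have c1 : c i = 0 := by rw [hc, Pi.sub_apply, Pi.smul_apply, vb_apply, if_pos rfl, smul_eq_mul, mul_one, sub_self]
  have c2 : c (bar i) = 0 := by rw [hc, Pi.sub_apply, Pi.smul_apply, vb_apply, if_neg (bar_ne i), h3, smul_zero, sub_zero]
  have c3 : fm K c c = 0 := by
    nth_rw 1 [hc]
    rw [map_sub, map_smul, LinearMap.sub_apply, LinearMap.smul_apply, fm_vb, c2, smul_zero, sub_zero, hc, map_sub, map_smul,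
      fm_vb', h3, smul_zero, sub_zero, L.orth, hb]
  have c4 : act g (be K a b) = a i • be K (vb K i) c := by
    rw [L.act, h2, hc, map_sub, map_smul, map_smul, be_self, smul_zero, sub_zero, LinearMap.smul_apply]
  obtain ⟨k, hk⟩ : ∃ k, c k ≠ 0 := Function.ne_iff.1 fun e : c = 0 =>
    h0 (act_eq_zero (g := g) (by rw [c4, e, map_zero, smul_zero]))
  have hik : Od i k := ⟨fun e => hk (e ▸ c1), fun e => hk (e ▸ c2)⟩
  obtain ⟨g', M', L', k2, k3⟩ := red k (Finset.univ.filter fun j => c j ≠ 0) c hk c3 fun _ _ e =>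
    Finset.mem_filter.2 ⟨Finset.mem_univ _, e⟩
  have k4 : M' (vb K i) = vb K i := k3 _ (by rw [vb_apply, if_neg hik.1]) fun j hj => by
    rw [vb_apply, if_neg]
    intro e
    exact (Finset.mem_filter.1 hj).2 (by rw [← bar_bar j, e, c2])
  have k5 : act g' (act g (be K a b)) = (a i * c k * sg i k) • act 1 (ee K (Sum.inr (rt i k))) := by
    rw [c4, act_smul, L'.act, k4, k2, map_smul, be_vb, cv_od hik, act_one, smul_smul, smul_smul]
  have k6 : Extr (act g' (act g (be K a b))) :=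
    ⟨1, rt i k, _, mul_ne_zero (mul_ne_zero hi hk) (left_ne_zero_of_mul_eq_one (sg_sq hik)), k5⟩
  have k7 := (k6.act g'⁻¹).act g⁻¹
  rwa [act_inv, act_inv] at k7

end

/-- no extremal vector commutes with all its conjugates -/
theorem parx {F : Type u} [Field F] [Finite F] [CharP F 3] {ψ : Alt 6 →* G8 (Kb F)} (hP : NoPar ψ) {x : L8 (Kb F)}
    (hx : Extr x) (hc : ∀ a, br x (act (ψ a) x) = 0) : False := by
  obtain ⟨g, r, c, hc0, rfl⟩ := hx
  have : CharP (Kb F) 3 := charP_of_injective_algebraMap (algebraMap F (Kb F)).injective 3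
  have : Fact (Nat.Prime 3) := ⟨Nat.prime_three⟩
  obtain ⟨h2, h3, h4⟩ := orbit_group ψ (ux_ne_one g r (one_ne_zero (α := Kb F))) (ux_pow 3 g r 1) fun a => by
    rw [conj_ux]
    refine ux_comm ?_ 1 1
    have h1 := hc a
    rw [act_smul, br_smul_left, br_smul_right, smul_smul, ← act_mul] at h1
    exact (smul_eq_zero.1 h1).resolve_left (mul_ne_zero hc0 hc0)
  have := finite_closure (locFinKb F) (Set.finite_range fun a => ψ a * Par.ux g r 1 * (ψ a)⁻¹)
  obtain ⟨g', lam, h5, h6⟩ := exists_par_of_pgroup (locFinKb F) 3 h2 h3 (y := fun a => ψ a) fun a => by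
    rw [Subgroup.mem_normalizer_iff]
    refine fun x => ⟨h4 a x, fun hx => ?_⟩
    have h7 := h4 a⁻¹ _ hx
    rwa [map_inv, show (ψ a)⁻¹ * (ψ a * x * (ψ a)⁻¹) * (ψ a)⁻¹⁻¹ = x by group] at h7
  exact hP g' lam h5 h6

theorem exists_od : ∀ i : Fin 16, ∃ j, Od i j := by decide

end Ns

open Ns in
/-- **NS** -/
theorem ns : NS.{u} := by
  intro F _ _ _ ψ hP σ hL S h0 hS hz
  have : CharP (Kb F) 3 := charP_of_injective_algebraMap (algebraMap F (Kb F)).injective 3
  by_cases h : ∃ a ∈ S, ∃ b ∈ S, be (Kb F) a b ≠ 0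
  · obtain ⟨a, ha, b, hb, hab⟩ := h
    refine parx hP (ext (hz a ha a ha) (hz b hb b hb) (hz a ha b hb) hab) fun g => ?_
    rw [(hL g).act, br_be, hz _ hb _ (hS g a ha), hz _ ha _ (hS g a ha), hz _ hb _ (hS g b hb), hz _ ha _ (hS g b hb)]
    simp
  · push Not at h
    obtain ⟨s, hs, hs0⟩ := (Submodule.ne_bot_iff _).1 h0
    obtain ⟨i, hi⟩ : ∃ i, s i ≠ 0 := Function.ne_iff.1 hs0
    obtain ⟨j, hj⟩ := exists_od i
    obtain ⟨v, hv⟩ : ∃ v, v = s i • vb (Kb F) j - s (bar j) • vb (Kb F) (bar i) := ⟨_, rfl⟩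
    have v1 : v i = 0 := by
      rw [hv, Pi.sub_apply, Pi.smul_apply, Pi.smul_apply, vb_apply, vb_apply, if_neg hj.1.symm, if_neg (bar_ne i).symm]
      simp
    have v2 : v (bar j) = 0 := by
      rw [hv, Pi.sub_apply, Pi.smul_apply, Pi.smul_apply, vb_apply, vb_apply, if_neg (bar_ne j),
        if_neg fun e => hj.1 (bar_inj.1 e)]
      simp
    have v3 : v j = s i := by
      rw [hv, Pi.sub_apply, Pi.smul_apply, Pi.smul_apply, vb_apply, vb_apply, if_pos rfl, if_neg hj.2]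
      simp
    have v4 : ∀ y, fm (Kb F) v y = s i * y (bar j) - s (bar j) * y i := fun y => by
      rw [hv, map_sub, map_smul, map_smul, LinearMap.sub_apply, LinearMap.smul_apply, LinearMap.smul_apply, fm_vb, fm_vb,
        bar_bar, smul_eq_mul, smul_eq_mul]
    have v5 : fm (Kb F) v s = 0 := by rw [v4]; ring
    have v6 : be (Kb F) s v ≠ 0 := fun e => by
      have h1 := be_eq_zero e i j
      rw [v1, v3, mul_zero] at h1
      exact mul_ne_zero hi hi h1
    refine parx hP (ext (hz s hs s hs) (by rw [v4, v1, v2]; ring) (by rw [fm_comm, v5]) v6) fun g => ?_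
    have w1 : σ g s = (σ g s i / s i) • s := funext fun k => by
      have h1 := be_eq_zero (h s hs _ (hS g s hs)) i k
      rw [Pi.smul_apply, smul_eq_mul]
      field_simp
      linear_combination h1
    have w2 : fm (Kb F) s (σ g v) = 0 := by
      by_contra e
      have h1 := (hL g).orth s v
      rw [fm_comm s v, v5, w1, map_smul, LinearMap.smul_apply, smul_eq_mul] at h1
      rw [(mul_eq_zero.1 h1).resolve_right e, zero_smul] at w1
      exact hs0 (fm_nd fun y => by rw [← (hL g).orth, w1, map_zero, LinearMap.zero_apply])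
    have w3 : fm (Kb F) v (σ g s) = 0 := by rw [w1, map_smul, v5, smul_zero]
    rw [(hL g).act, br_be, w2, w3, hz _ hs _ (hS g s hs), h s hs _ (hS g s hs)]
    simp

end Cfsg.Agent.E8A.D44
end

-- part: E8A/D44/Asm
section
prune_inst 0x7f00000000000000000000000000000000000000000000000000000000000000000000000000000000000000000000000000000000000000000000000000000000000000000000000000000000000000003fffffffffffffffffffffffffffbeffbdffffffff
set_option linter.all false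
open scoped Cfsg.Agent.FastGrp

/-!
# D44 from the boxes (helper43)
-/

set_option autoImplicit false
set_option maxRecDepth 100000

namespace Cfsg.Agent.E8A.D44

open Cfsg Cfsg.Lie Module
open Cfsg.Agent.E8A.C63

universe u

theorem all_of_sq {P : Alt 6 → Prop} (hm : ∀ a b, P a → P b → P (a * b)) (hs : ∀ a, P (a * a)) (a : Alt 6) : P a := by
  refine Md.ind (one_mul (1 : Alt 6) ▸ hs 1) hm ?_ ?_ ?_ a
  · rw [show uu = (uu * uu) * (uu * uu) by decide]
    exact hs _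
  · rw [show yy = ((dd * uu) * (dd * uu)) * ((uu * yy * uu * dd * yy * uu) * (uu * yy * uu * dd * yy * uu)) by decide]
    exact hm _ _ (hs _) (hs _)
  · rw [show dd = (uu * yy * yy * dd * uu) * (uu * yy * yy * dd * uu) by decide]
    exact hs _

theorem rg1 {R : Type*} [Ring R] {M x : R} (h : M * x = x * M) : M * -x = -x * M := by rw [mul_neg, neg_mul, h]

theorem rg2 {R : Type*} [Ring R] {M x : R} (e : M * x = -(x * M)) : M * (x * x) = x * x * M := by
  rw [← mul_assoc, e, neg_mul, mul_assoc, e, mul_neg, neg_neg, mul_assoc]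

variable {K : Type u} [Field K]

variable (K) in
/-- the vectors supported on `J` -/
def UJ (J : Finset (Fin 16)) : Submodule K (V16 K) := LinearMap.ker (LinearMap.funLeft K K (Subtype.val : ↥Jᶜ → Fin 16))

theorem mem_UJ {J : Finset (Fin 16)} {x : V16 K} : x ∈ UJ K J ↔ ∀ i, i ∉ J → x i = 0 :=
  ⟨fun h i hi => congrFun h ⟨i, Finset.mem_compl.2 hi⟩, fun h => funext fun i => h i (Finset.mem_compl.1 i.2)⟩

theorem finrank_UJ {J : Finset (Fin 16)} (h : J.card = 8) : finrank K ↥(UJ K J) = 8 := by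
  have h1 := LinearMap.finrank_range_add_finrank_ker (LinearMap.funLeft K K (Subtype.val : ↥Jᶜ → Fin 16))
  rw [LinearMap.range_eq_top.2 (LinearMap.funLeft_surjective_of_injective _ _ _ Subtype.val_injective), finrank_top,
    finrank_fintype_fun_eq_card, finrank_fintype_fun_eq_card, Fintype.card_coe, Finset.card_compl, h, Fintype.card_fin] at h1
  exact Nat.add_left_cancel (n := 8) h1

variable [CharP K 3] {ψ : Alt 6 →* G8 K} {σ : Alt 6 → Module.End K (V16 K)}

theorem lk_mul (hσ : ∀ a, Lk (ψ a) (σ a)) (a b : Alt 6) : σ (a * b) = σ a * σ b ∨ σ (a * b) = -(σ a * σ b) :=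
  ((hσ a).mul (hσ b)).uniq (map_mul ψ a b ▸ hσ (a * b))

theorem lk_comm (hσ : ∀ a, Lk (ψ a) (σ a)) {w : G8 K} {M : Module.End K (V16 K)} (hw : Lk w M) (hc : ∀ a, Commute w (ψ a))
    (a : Alt 6) : M * σ a = σ a * M := by
  refine all_of_sq (P := fun a => M * σ a = σ a * M) (fun a b h1 h2 => ?_) (fun a => ?_) a
  · have h3 : M * (σ a * σ b) = σ a * σ b * M := by rw [← mul_assoc, h1, mul_assoc, h2, mul_assoc]
    rcases lk_mul hσ a b with e | e
    · rw [e, h3]
    · rw [e]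
      exact rg1 h3
  · have h3 : M * (σ a * σ a) = σ a * σ a * M := by
      rcases ((hσ a).mul hw).uniq ((hc a).eq ▸ hw.mul (hσ a)) with e | e
      · rw [← mul_assoc, e, mul_assoc, e, mul_assoc]
      · exact rg2 e
    rcases lk_mul hσ a a with e | e
    · rw [e, h3]
    · rw [e]
      exact rg1 h3

theorem inv_UJ (hσ : ∀ a, Lk (ψ a) (σ a)) {w : G8 K} (hc : ∀ a, Commute w (ψ a)) {J : Finset (Fin 16)}
    (hb : ∀ i, bar i ∈ J ↔ i ∈ J) (hw : ∀ i j, act w (cv K i j) = if (i ∈ J ↔ j ∈ J) then cv K i j else -cv K i j)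
    (a : Alt 6) : ∀ x ∈ UJ K J, σ a x ∈ UJ K J := by
  have h1 : Lk w (LinearMap.mulLeft K fun i => if i ∈ J then (1 : K) else -1) := lk_diag (fun i => by
    simp only [hb]
    split_ifs <;> simp) fun i j => by
      rw [hw]
      by_cases e1 : i ∈ J <;> by_cases e2 : j ∈ J <;> simp [e1, e2]
  intro x hx
  have h2 := LinearMap.congr_fun (lk_comm hσ h1 hc a) x
  rw [Module.End.mul_apply, Module.End.mul_apply, show (LinearMap.mulLeft K fun i => if i ∈ J then (1 : K) else -1) x = x from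
    funext fun i => by
      show (if i ∈ J then (1 : K) else -1) * x i = x i
      split_ifs with e
      · rw [one_mul]
      · rw [mem_UJ.1 hx i e, mul_zero]] at h2
  refine mem_UJ.2 fun i hi => ?_
  have h3 : (if i ∈ J then (1 : K) else -1) * σ a x i = σ a x i := congrFun h2 i
  rw [if_neg hi] at h3
  linear_combination h3 + σ a x i * three_K (K := K)

theorem d44_of (hO : ORT.{u}) (hN : NF.{u}) (hS : NS.{u}) : D44.{u} := by
  intro F _ _ _ ψ hψ _ s t hs ht hst ds dt dst cs ct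
  have : CharP (Kb F) 3 := charP_of_injective_algebraMap (algebraMap F (Kb F)).injective 3
  obtain ⟨c, I, h1, h2, h3, h4⟩ := hN F s t hs ht hst ds dt dst
  have hψ' := hψ.cj c
  choose σ hσ using fun a => lift F _ (cj c ψ a) h1 ((cs a).symm.conj c)
  have hc : ∀ a, Commute (c * t * c⁻¹) (cj c ψ a) := fun a => (ct a).conj c
  have key : ∀ J : Finset (Fin 16), J.card = 8 → (∀ i, bar i ∈ J ↔ i ∈ J) → (∀ i j, (i ∈ J ↔ j ∈ J) ↔ (i ∈ I ↔ j ∈ I)) →
      ∃ v ∈ UJ (Kb F) J, v ≠ 0 ∧ ∀ a, ∃ c, σ a v = c • v := fun J k1 k2 k3 =>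
    hO _ _ (fm _) σ _ fm_comm (fun _ => fm_nd) (fun a => (hσ a).orth) (lk_mul hσ) (finrank_UJ k1)
      (inv_UJ hσ hc k2 fun i j => by simp only [h4, k3]) fun S _ => hS F _ hψ'.par σ hσ S
  obtain ⟨v, hv, v0, kv⟩ := key I h2 h3 fun _ _ => Iff.rfl
  obtain ⟨v', hv', v0', kv'⟩ := key Iᶜ (by rw [Finset.card_compl, h2]; rfl) (fun i => by
    simp only [Finset.mem_compl, h3]) fun i j => by simp only [Finset.mem_compl, not_iff_not]
  have h5 := hψ'.fx (be _ v v') (line_fix (rp (cj c ψ)) fun a => by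
    obtain ⟨x, hx⟩ := kv a
    obtain ⟨y, hy⟩ := kv' a
    exact ⟨y * x, by rw [rp_apply, (hσ a).act, hx, hy, map_smul, map_smul, LinearMap.smul_apply, smul_smul]⟩)
  obtain ⟨i, hi⟩ := Function.ne_iff.1 v0
  obtain ⟨j, hj⟩ := Function.ne_iff.1 v0'
  have h6 := be_eq_zero h5 i j
  rw [mem_UJ.1 hv' i fun e => hi (mem_UJ.1 hv i (Finset.mem_compl.1 e)), mul_zero] at h6
  exact mul_ne_zero hi hj h6

end Cfsg.Agent.E8A.D44
end

-- part: E8A/C63/Lat
section
set_option linter.all false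
open scoped Cfsg.Agent.FastGrp

/-!
# `A₆` in characteristic 3: the two lattice checks `Z3`, `K9` (helper95)
-/

set_option autoImplicit false
set_option maxRecDepth 100000

namespace Cfsg.Agent.E8A.C63

open Cfsg Cfsg.Lie Module
open Cfsg.Agent.H288.E8L (Q8 wt act8 wt_inl wt_inr rt_vec exists_idx wt_inj)
open Cfsg.Agent.H942.E8Tab (e8T theta8 pos8 R8)
open Cfsg.Agent.H942.CB (cs8 dotZ dotZ_fz toR mem_pos_iff)
open Cfsg.Agent.H944.Kac (srefl srefl_cast exists_alcove)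
open Cfsg.Agent.ChevalleyStructure.CoxeterGeomTypes (cartanOf)
open Cfsg.Agent.E8A.Reg5.Cls (ex mv ex_refl ex_zero tb tb_mv tb_all)
open Cfsg.Agent.E8A.Two (nm bw)

universe u

namespace Lt

theorem exists_refl (i : Fin 8) (j : chevE8.Idx) : ∃ j', ∀ y, ex (srefl chevE8 8 i y) (wt j') = ex y (wt j) ∧
    ex (srefl chevE8 8 i y) (wt j) = ex y (wt j') ∧ act8 (cs8.simple i) (wt j') = wt j := by
  obtain ⟨j', h⟩ : ∃ j', wt j' = act8 (cs8.simple i) (wt j) := by
    rcases j with j | j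
    · exact ⟨.inl j, by rw [wt_inl, act8_zero]⟩
    · obtain ⟨s, hs⟩ := exists_idx ((rt_vec j).act (cs8.simple i))
      exact ⟨.inr s, hs⟩
  have h1 : act8 (cs8.simple i) (wt j') = wt j := by rw [h, ← act8_mul, cs8.simple_mul_simple_self, act8_one]
  exact ⟨j', fun y => ⟨by rw [← ex_refl, h1], by rw [← ex_refl, h], h1⟩⟩

theorem ex_congr {N : ℕ} {y y' : Q8} (h : ∀ i, ((y i : ℤ) : ZMod N) = ((y' i : ℤ) : ZMod N)) (a : Q8) :
    ex y a % N = ex y' a % N := by
  refine (ZMod.intCast_eq_intCast_iff' _ _ N).1 ?_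
  unfold ex
  push_cast
  simp only [h]

theorem alcove {N : ℕ} (hN : 0 < N) {P : Q8 → Prop} (hP : ∀ y i, P y → P (srefl chevE8 8 i y)) {y₀ : Q8} (h : P y₀) :
    ∃ (a : Fin 8 → ℕ) (y : Q8), 2 * a 0 + 3 * a 1 + 4 * a 2 + 6 * a 3 + 5 * a 4 + 4 * a 5 + 3 * a 6 + 2 * a 7 ≤ N ∧
      P y ∧ ∀ i, ((y i : ℤ) : ZMod N) = (((a i : ℕ) : ℤ) : ZMod N) := by
  obtain ⟨a, ⟨y, hy, h1⟩, hθ⟩ := exists_alcove e8T hN _ _ 60 (by norm_num) theta8
    (by decide) _ pos8 (fun v => ∃ y : Q8, (fun i => ((y i : ℤ) : ZMod N)) = v ∧ P y)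
    (by
      rintro _ j ⟨y, rfl, hy⟩
      exact ⟨_, (srefl_cast y j).symm, hP y j hy⟩) ⟨y₀, rfl, h⟩
  refine ⟨a, y, ?_, h1, fun i => by rw [congrFun hy i, Int.cast_natCast]⟩
  simp only [Fin.sum_univ_eight, Matrix.cons_val] at hθ
  omega

/-! ### `Z3` -/

theorem mv_le (N : ℕ) (y : Q8) (i : Fin 8) : mv N y ≤ mv N (srefl chevE8 8 i y) := by
  choose f hf using exists_refl i
  refine Finset.card_le_card_of_injOn f (fun j hj => ?_) fun j hj k _ e => ?_
  · simp only [Finset.coe_filter, Finset.mem_univ, true_and, Set.mem_ofPred_eq] at hj ⊢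
    rwa [(hf j y).1]
  · simp only [Finset.coe_filter, Finset.mem_univ, true_and, Set.mem_ofPred_eq] at hj
    refine wt_inj (by rw [← (hf j y).2.2, e, (hf k y).2.2]) fun h0 => hj ?_
    rw [h0, ex_zero, Int.zero_emod]

theorem mv_le_nm (N : ℕ) (y : Q8) : (mv N y : ℤ) ≤ 60 * nm y := by
  have h1 : ∑ j, ex y (wt j) ^ 2 = 60 * nm y := by
    rw [TwoH.sum_sq TwoH.tab_all, nm, bw, Finset.mul_sum]
    refine Finset.sum_congr rfl fun i _ => ?_
    rw [Finset.mul_sum]
    exact Finset.sum_congr rfl fun k _ => by ring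
  rw [← h1, mv, Finset.card_filter, Nat.cast_sum]
  refine Finset.sum_le_sum fun j _ => ?_
  split_ifs with h
  · have : ex y (wt j) ≠ 0 := fun e => h (by rw [e, Int.zero_emod])
    exact Int.add_one_le_of_lt (a := 0) (by positivity)
  · positivity

theorem mv_three (y : Q8) : (nm y = 2 → mv 3 y ≤ 114) ∧ (nm y = 4 → mv 3 y ≤ 156) ∧ (nm y = 6 → mv 3 y ≤ 162) := by
  obtain ⟨a, y', h1, ⟨h2, h3⟩, h4⟩ := alcove (N := 3) (by norm_num) (P := fun y' => nm y' = nm y ∧ mv 3 y ≤ mv 3 y')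
    (fun y' i h => ⟨(Two.nm_srefl y' i).trans h.1, h.2.trans (mv_le 3 y' i)⟩) ⟨rfl, le_rfl⟩
  obtain ⟨x, hx, e⟩ := tb_all 3 (by decide) ⟨a 0, by omega⟩ ⟨a 1, by omega⟩ ⟨a 2, by omega⟩ ⟨a 3, by omega⟩
    ⟨a 4, by omega⟩ ⟨a 5, by omega⟩ ⟨a 6, by omega⟩ ⟨a 7, by omega⟩ h1
  have e1 : (fun i : Fin 8 => ((x.1.getD i 0 : ℕ) : ℤ)) = fun i => (a i : ℤ) := by
    rw [e]
    funext i
    fin_cases i <;> rfl
  have h5 := tb_mv 3 (by decide) x hx
  have h6 := Two.tb_q3 x hx
  have h7 : mv 3 y' = mv 3 fun i => (a i : ℤ) := by simp only [mv, ex_congr h4]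
  have h8 := mv_le_nm 3 y'
  rw [e1, ← h7] at h5
  rw [e1, ← Two.nm_congr h4, h2] at h6
  have h9 : ∀ x ∈ tb 3, (x.2 = 80 ∨ 134 ≤ x.2 ∨ Two.q3 x.2 ≠ 2) ∧ (92 ≤ x.2 ∨ Two.q3 x.2 ≠ 1) ∧
      (86 ≤ x.2 ∨ Two.q3 x.2 ≠ 0) := by decide
  obtain ⟨k1, k2, k3⟩ := h9 x hx
  refine ⟨fun h => ?_, fun h => ?_, fun h => ?_⟩ <;> rw [h] at h6
  · rcases k1 with k | k | k
    · omega
    · omega
    · exact absurd h6.symm k
  · exact k2.elim (fun k => by omega) fun k => absurd h6.symm k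
  · exact k3.elim (fun k => by omega) fun k => absurd h6.symm k

section rank

variable {K : Type*} [Field K] {V : Type*} [AddCommGroup V] [Module K V] [FiniteDimensional K V]

theorem fr (D : Module.End K V) (U : Submodule K V) :
    finrank K (U.map D) + finrank K ↥(U ⊓ LinearMap.ker D) = finrank K U := by
  have h := (D.domRestrict U).finrank_range_add_finrank_ker
  rw [LinearMap.range_domRestrict, LinearMap.ker_domRestrict] at h
  rw [← h, ← (Submodule.comapSubtypeEquivOfLe (inf_le_left : U ⊓ LinearMap.ker D ≤ U)).finrank_eq, Submodule.comap_inf,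
    Submodule.comap_subtype_self, top_inf_eq]

theorem rank3 {D : Module.End K V} (h : ∀ v, D (D (D v)) = 0) {V0 V1 V2 : Submodule K V} (h1 : ∀ v ∈ V0, D v ∈ V1)
    (h2 : ∀ v ∈ V1, D v ∈ V2) (d1 : Disjoint V0 V1) (d2 : Disjoint (V0 ⊔ V1) V2) :
    finrank K V0 ≤ finrank K (LinearMap.ker D) := by
  have a1 := fr D V0
  have a2 := fr D (V0.map D)
  have b1 : V0.map D ≤ V1 := Submodule.map_le_iff_le_comap.2 h1
  have b2 : (V0.map D).map D ≤ V2 := Submodule.map_le_iff_le_comap.2 fun v hv => h2 v (b1 hv)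
  have c1 := Submodule.finrank_sup_add_finrank_inf_eq (V0 ⊓ LinearMap.ker D) (V0.map D ⊓ LinearMap.ker D)
  have c2 := Submodule.finrank_sup_add_finrank_inf_eq (V0 ⊓ LinearMap.ker D ⊔ V0.map D ⊓ LinearMap.ker D)
    ((V0.map D).map D)
  rw [(d1.mono inf_le_left (inf_le_left.trans b1)).eq_bot, finrank_bot] at c1
  rw [(d2.mono (sup_le_sup inf_le_left (inf_le_left.trans b1)) b2).eq_bot, finrank_bot] at c2
  have c3 := Submodule.finrank_mono (show V0 ⊓ LinearMap.ker D ⊔ V0.map D ⊓ LinearMap.ker D ⊔ (V0.map D).map D ≤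
    LinearMap.ker D from sup_le (sup_le inf_le_right inf_le_right) (by rintro _ ⟨_, ⟨v, -, rfl⟩, rfl⟩; exact h v))
  omega

end rank

theorem disj {K : Type u} [Field K] {A B : Set Q8} (h : ∀ a ∈ A, a ∉ B) : Disjoint (LS K A) (LS K B) :=
  Submodule.disjoint_def.2 fun _ h1 h2 => funext fun i => by_contra fun e => h _ (h1 i e) (h2 i e)

theorem ex_add (y a b : Q8) : ex y (a + b) = ex y a + ex y b := by simp [ex, add_mul, Finset.sum_add_distrib]

theorem le_cd {K : Type u} [Field K] {y : Q8} {x : L8 K} (h : Cz x) (hx : x ∈ LS K (Eq' (cl y) 1)) :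
    248 ≤ cd x + mv 3 y := by
  have h1 : x ∈ LS K {a | ex y a = 1} := LS_mono (fun a ha => Int.cast_injective (α := ℝ) (Eq.trans ha Int.cast_one.symm)) hx
  have h2 := rank3 (D := (adm x).mulVecLin) (V0 := LS K {a | ex y a % 3 = 0}) (V1 := LS K {a | ex y a % 3 = 1})
    (V2 := LS K {a | ex y a % 3 = 2}) (fun v => by
      simp only [Matrix.mulVecLin_apply, Matrix.mulVec_mulVec]
      rw [← pow_two, ← pow_succ', h, Matrix.zero_mulVec])
    (fun v hv => br_LS (fun a ha b hb => by simp only [Set.mem_ofPred_eq, ex_add] at *; omega) h1 hv)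
    (fun v hv => br_LS (fun a ha b hb => by simp only [Set.mem_ofPred_eq, ex_add] at *; omega) h1 hv)
    (disj fun a ha hb => by simp only [Set.mem_ofPred_eq] at *; omega)
    ((disj (A := {a | ex y a % 3 ≠ 2}) fun a ha hb => ha hb).mono_left (sup_le
      (LS_mono fun a ha => by simp only [Set.mem_ofPred_eq] at *; omega)
      (LS_mono fun a ha => by simp only [Set.mem_ofPred_eq] at *; omega)))
  have h3 : cen {x} = LinearMap.ker (adm x).mulVecLin :=
    Submodule.ext fun v => ⟨fun hv => hv x rfl, fun hv s hs => by rw [hs]; exact hv⟩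
  have h4 := Finset.card_filter_add_card_filter_not (s := Finset.univ) fun j : chevE8.Idx => ex y (wt j) % 3 = 0
  rw [Finset.card_univ, Fintype.card_sum, Fintype.card_fin, Fintype.card_fin] at h4
  rw [TwoH.fr_LS, ← h3] at h2
  have h5 : chevE8.rank + chevE8.nroots = 248 := rfl
  have h6 : mv 3 y = (Finset.univ.filter fun j : chevE8.Idx => ¬ ex y (wt j) % 3 = 0).card := rfl
  replace h2 : (Finset.univ.filter fun j : chevE8.Idx => ex y (wt j) % 3 = 0).card ≤ cd x := h2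
  omega

/-! ### `K9` -/

/-- the points of the alcove with a vector -/
def pts : List (List ℕ × List ℤ) := [
  ([0, 0, 0, 0, 0, 0, 0, 1], [0, 0, 0, 0, 0, 0, 0, 1]), ([0, 0, 0, 0, 0, 0, 0, 2], [0, 0, 0, 0, 0, 0, 0, 1]),
  ([0, 0, 0, 0, 0, 0, 0, 4], [0, 0, 0, 0, 0, 0, 0, 1]), ([0, 0, 0, 0, 0, 0, 1, 0], [0, 0, 0, 0, 0, 0, 1, 0]),
  ([0, 0, 0, 0, 0, 0, 1, 1], [0, 0, 0, 0, 0, 0, 0, 1]), ([0, 0, 0, 0, 0, 0, 1, 2], [0, 0, 0, 0, 0, 0, 1, 0]),
  ([0, 0, 0, 0, 0, 0, 1, 3], [0, 0, 0, 0, 0, 0, 2, -3]), ([0, 0, 0, 0, 0, 0, 2, 0], [0, 0, 0, 0, 0, 0, 1, 0]),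
  ([0, 0, 0, 0, 0, 0, 2, 1], [0, 0, 0, 0, 0, 0, 1, 0]), ([0, 0, 0, 0, 0, 1, 0, 0], [0, 0, 0, 0, 0, 1, 0, 0]),
  ([0, 0, 0, 0, 0, 1, 0, 1], [0, 0, 0, 0, 0, 1, 0, 0]), ([0, 0, 0, 0, 0, 1, 0, 2], [0, 0, 0, 0, 0, 1, 0, 0]),
  ([0, 0, 0, 0, 0, 1, 1, 0], [0, 0, 0, 0, 0, 1, 0, 0]), ([0, 0, 0, 0, 0, 1, 1, 1], [0, 0, 0, 0, 0, 3, -4, 0]),
  ([0, 0, 0, 0, 0, 2, 0, 0], [0, 0, 0, 0, 0, 1, 0, 0]), ([0, 0, 0, 0, 1, 0, 0, 0], [0, 0, 0, 0, 1, 0, 0, 0]),
  ([0, 0, 0, 0, 1, 0, 0, 1], [0, 0, 0, 0, 1, 0, 0, 0]), ([0, 0, 0, 0, 1, 0, 0, 2], [0, 0, 0, 0, 2, 0, 0, -5]),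
  ([0, 0, 0, 0, 1, 0, 1, 0], [0, 0, 0, 0, 1, 0, 0, 0]), ([0, 0, 0, 0, 1, 1, 0, 0], [0, 0, 0, 0, 4, -5, 0, 0]),
  ([0, 0, 0, 1, 0, 0, 0, 0], [0, 0, 0, 1, 0, 0, 0, 0]), ([0, 0, 0, 1, 0, 0, 0, 1], [0, 0, 0, 0, 0, 0, 0, 1]),
  ([0, 0, 0, 1, 0, 0, 1, 0], [0, 0, 0, 1, 0, 0, -2, 0]), ([0, 0, 1, 0, 0, 0, 0, 0], [0, 0, 1, 0, 0, 0, 0, 0]),
  ([0, 0, 1, 0, 0, 0, 0, 1], [0, 0, 0, 0, 0, 0, 0, 1]), ([0, 0, 1, 0, 0, 0, 0, 2], [0, 0, 1, 0, 0, 0, 0, 0]),
  ([0, 0, 1, 0, 0, 0, 1, 0], [0, 0, 1, 0, 0, 0, 0, 0]), ([0, 0, 1, 0, 0, 0, 1, 1], [0, 0, 3, 0, 0, 0, -4, 0]),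
  ([0, 0, 1, 0, 0, 1, 0, 0], [0, 0, 1, 0, 0, 0, 0, 0]), ([0, 0, 1, 0, 1, 0, 0, 0], [0, 0, 5, 0, -4, 0, 0, 0]),
  ([0, 0, 2, 0, 0, 0, 0, 0], [0, 0, 1, 0, 0, 0, 0, 0]), ([0, 1, 0, 0, 0, 0, 0, 0], [0, 1, 0, 0, 0, 0, 0, 0]),
  ([0, 1, 0, 0, 0, 0, 0, 1], [0, 1, 0, 0, 0, 0, 0, 0]), ([0, 1, 0, 0, 0, 0, 0, 2], [0, 1, 0, 0, 0, 0, 0, 0]),
  ([0, 1, 0, 0, 0, 0, 0, 3], [0, 2, 0, 0, 0, 0, 0, -3]), ([0, 1, 0, 0, 0, 0, 1, 0], [0, 1, 0, 0, 0, 0, 0, 0]),
  ([0, 1, 0, 0, 0, 0, 1, 1], [0, 1, 0, 0, 0, 0, 0, 0]), ([0, 1, 0, 0, 0, 0, 2, 0], [0, 1, 0, 0, 0, 0, -1, 0]),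
  ([0, 1, 0, 0, 0, 1, 0, 0], [0, 1, 0, 0, 0, 0, 0, 0]), ([0, 1, 0, 0, 0, 1, 0, 1], [0, 4, 0, 0, 0, -3, 0, 0]),
  ([0, 1, 0, 0, 1, 0, 0, 0], [0, 1, 0, 0, 0, 0, 0, 0]), ([0, 1, 0, 1, 0, 0, 0, 0], [0, 2, 0, -1, 0, 0, 0, 0]),
  ([0, 1, 1, 0, 0, 0, 0, 0], [0, 0, 1, 0, 0, 0, 0, 0]), ([0, 1, 1, 0, 0, 0, 0, 1], [0, 2, 0, 0, 0, 0, 0, -3]),
  ([0, 2, 0, 0, 0, 0, 0, 0], [0, 1, 0, 0, 0, 0, 0, 0]), ([0, 2, 0, 0, 0, 0, 0, 1], [0, 1, 0, 0, 0, 0, 0, 0]),
  ([0, 2, 0, 0, 0, 0, 1, 0], [0, 1, 0, 0, 0, 0, -1, 0]), ([1, 0, 0, 0, 0, 0, 0, 0], [1, 0, 0, 0, 0, 0, 0, 0]),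
  ([1, 0, 0, 0, 0, 0, 0, 1], [1, 0, 0, 0, 0, 0, 0, 0]), ([1, 0, 0, 0, 0, 0, 0, 2], [1, 0, 0, 0, 0, 0, 0, 0]),
  ([1, 0, 0, 0, 0, 0, 0, 3], [1, 0, 0, 0, 0, 0, 0, 0]), ([1, 0, 0, 0, 0, 0, 1, 0], [1, 0, 0, 0, 0, 0, 0, 0]),
  ([1, 0, 0, 0, 0, 0, 1, 1], [1, 0, 0, 0, 0, 0, 0, 0]), ([1, 0, 0, 0, 0, 0, 1, 2], [3, 0, 0, 0, 0, 0, -2, 0]),
  ([1, 0, 0, 0, 0, 0, 2, 0], [1, 0, 0, 0, 0, 0, 0, 0]), ([1, 0, 0, 0, 0, 1, 0, 0], [1, 0, 0, 0, 0, 0, 0, 0]),
  ([1, 0, 0, 0, 0, 1, 0, 1], [1, 0, 0, 0, 0, 0, 0, 0]), ([1, 0, 0, 0, 0, 1, 1, 0], [2, 0, 0, 0, 0, -1, 0, 0]),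
  ([1, 0, 0, 0, 1, 0, 0, 0], [1, 0, 0, 0, 0, 0, 0, 0]), ([1, 0, 0, 0, 1, 0, 0, 1], [5, 0, 0, 0, -2, 0, 0, 0]),
  ([1, 0, 0, 1, 0, 0, 0, 0], [1, 0, 0, 0, 0, 0, 0, 0]), ([1, 0, 1, 0, 0, 0, 0, 0], [1, 0, 0, 0, 0, 0, 0, 0]),
  ([1, 0, 1, 0, 0, 0, 0, 1], [1, 0, 0, 0, 0, 0, 0, 0]), ([1, 0, 1, 0, 0, 0, 1, 0], [2, 0, -1, 0, 0, 0, 0, 0]),
  ([1, 1, 0, 0, 0, 0, 0, 0], [0, 1, 0, 0, 0, 0, 0, 0]), ([1, 1, 0, 0, 0, 0, 0, 1], [1, 0, 0, 0, 0, 0, 0, 0]),
  ([1, 1, 0, 0, 0, 0, 0, 2], [3, -2, 0, 0, 0, 0, 0, 0]), ([1, 1, 0, 0, 0, 0, 1, 0], [1, 0, 0, 0, 0, 0, 0, 0]),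
  ([1, 1, 0, 0, 0, 1, 0, 0], [3, -2, 0, 0, 0, 0, 0, 0]), ([1, 1, 1, 0, 0, 0, 0, 0], [3, -2, 0, 0, 0, 0, 0, 0]),
  ([1, 2, 0, 0, 0, 0, 0, 0], [1, 0, 0, 0, 0, 0, 0, 0]), ([2, 0, 0, 0, 0, 0, 0, 0], [1, 0, 0, 0, 0, 0, 0, 0]),
  ([2, 0, 0, 0, 0, 0, 0, 1], [1, 0, 0, 0, 0, 0, 0, 0]), ([2, 0, 0, 0, 0, 0, 0, 2], [1, 0, 0, 0, 0, 0, 0, 0]),
  ([2, 0, 0, 0, 0, 0, 1, 0], [1, 0, 0, 0, 0, 0, 0, 0]), ([2, 0, 0, 0, 0, 0, 1, 1], [3, 0, 0, 0, 0, 0, -2, 0]),
  ([2, 0, 0, 0, 0, 1, 0, 0], [1, 0, 0, 0, 0, 0, 0, 0]), ([2, 0, 0, 0, 1, 0, 0, 0], [5, 0, 0, 0, -2, 0, 0, 0]),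
  ([2, 0, 1, 0, 0, 0, 0, 0], [1, 0, 0, 0, 0, 0, 0, 0]), ([2, 1, 0, 0, 0, 0, 0, 0], [1, 0, 0, 0, 0, 0, 0, 0]),
  ([2, 1, 0, 0, 0, 0, 0, 1], [3, -2, 0, 0, 0, 0, 0, 0]), ([3, 0, 0, 0, 0, 0, 0, 1], [1, 0, 0, 0, 0, 0, 0, 0]),
  ([3, 0, 0, 0, 0, 0, 1, 0], [3, 0, 0, 0, 0, 0, -2, 0]), ([3, 1, 0, 0, 0, 0, 0, 0], [3, -2, 0, 0, 0, 0, 0, 0]),
  ([4, 0, 0, 0, 0, 0, 0, 0], [1, 0, 0, 0, 0, 0, 0, 0])]

private noncomputable def eqN (l : List ℕ) : List ℕ → Bool :=
  List.rec (fun m => List.rec true (fun _ _ _ => false) m)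
    (fun a _ ih m => List.rec false (fun b m' _ => Bool.rec false (ih m') (Nat.beq a b)) m) l

private theorem eqN_eq : ∀ {l m : List ℕ}, eqN l m = true → l = m
  | [], [], _ => rfl
  | [], _ :: _, h => Bool.noConfusion h
  | _ :: _, [], h => Bool.noConfusion h
  | a :: l, b :: m, h => by
    have h1 : (Nat.beq a b && eqN l m) = true := by
      have h2 : (Bool.rec false (eqN l m) (Nat.beq a b) : Bool) = true := h
      revert h2
      cases Nat.beq a b <;> exact id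
    rw [Bool.and_eq_true] at h1
    rw [Nat.eq_of_beq_eq_true h1.1, eqN_eq h1.2]

theorem pts_all : ∀ (a h : Fin 5) (b g : Fin 4) (c f : Fin 3) (d e : Fin 2),
    2 * a.val + 3 * b.val + 4 * c.val + 6 * d.val + 5 * e.val + 4 * f.val + 3 * g.val + 2 * h.val ≤ 9 →
      (∀ t ∈ [a.val, b.val, c.val, d.val, e.val, f.val, g.val, h.val], 3 ∣ t) ∨
        [a.val, b.val, c.val, d.val, e.val, f.val, g.val, h.val] ∈ pts.map Prod.fst := by
  have key : ∀ (a h : Fin 5), 2 * a.val + 2 * h.val ≤ 9 → ∀ (b g : Fin 4), 2 * a.val + 2 * h.val + 3 * b.val + 3 * g.val ≤ 9 →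
      ∀ (c f : Fin 3), 2 * a.val + 2 * h.val + 3 * b.val + 3 * g.val + 4 * c.val + 4 * f.val ≤ 9 → ∀ (d e : Fin 2),
      2 * a.val + 2 * h.val + 3 * b.val + 3 * g.val + 4 * c.val + 4 * f.val + 6 * d.val + 5 * e.val ≤ 9 →
      (pts.any fun x => eqN [a.val, b.val, c.val, d.val, e.val, f.val, g.val, h.val] x.1) = true ∨
        ∀ t ∈ [a.val, b.val, c.val, d.val, e.val, f.val, g.val, h.val], 3 ∣ t := by decide +kernel
  intro a h b g c f d e h1
  rcases key a h (by omega) b g (by omega) c f (by omega) d e (by omega) with h2 | h2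
  · obtain ⟨x, hx, h3⟩ := List.any_eq_true.1 h2
    exact Or.inr (List.mem_map.2 ⟨x, hx, (eqN_eq h3).symm⟩)
  · exact Or.inl h2

private noncomputable def dN (r : List ℕ) : List ℕ → ℕ :=
  List.rec (fun _ => 0) (fun a _ ih c => List.rec 0 (fun b bs _ => Nat.add (Nat.mul a b) (ih bs)) c) r

private theorem dN_eq : ∀ r c : List ℕ, (dN r c : ℤ) = dotZ r (c.map Nat.cast)
  | [], _ => rfl
  | _ :: _, [] => rfl
  | a :: r, b :: c => by
    show ((a * b + dN r c : ℕ) : ℤ) = (a : ℤ) * b + dotZ r (c.map Nat.cast)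
    rw [Nat.cast_add, Nat.cast_mul, dN_eq r c]

private theorem ex_toR {r : List ℕ} (hr : r ∈ R8) (c : List ℤ) : ex (fun i => c.getD i 0) (toR r) = dotZ r c := by
  rw [dotZ_fz hr]
  exact Finset.sum_congr rfl fun i _ => mul_comm _ _

private theorem ex_neg (y a : Q8) : ex y (-a) = -ex y a := by
  unfold ex
  rw [← Finset.sum_neg_distrib]
  exact Finset.sum_congr rfl fun i _ => neg_mul _ _

theorem pts_ok : ∀ x ∈ pts, bw (fun i => x.2.getD i 0) (fun i => (x.1.getD i 0 : ℕ)) % 9 ≠ 0 ∧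
    ∀ j : chevE8.Idx, ex (fun i => (x.1.getD i 0 : ℕ)) (wt j) % 9 = 0 → ex (fun i => x.2.getD i 0) (wt j) = 0 := by
  have k1 : ∀ x ∈ pts, bw (fun i => x.2.getD i 0) (fun i => (x.1.getD i 0 : ℕ)) % 9 ≠ 0 := by decide +kernel
  have k2 : (pts.all fun x => R8.all fun r => Nat.blt 0 (Nat.mod (dN r x.1) 9) || decide (dotZ r x.2 = 0)) = true := by
    decide +kernel
  refine fun x hx => ⟨k1 x hx, fun j => ?_⟩
  have k3 : ∀ r ∈ R8, ex (fun i => (x.1.getD i 0 : ℕ)) (toR r) % 9 = 0 → ex (fun i => x.2.getD i 0) (toR r) = 0 := by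
    intro r hr h
    have e : (fun i : Fin 8 => ((x.1.getD i 0 : ℕ) : ℤ)) = fun i : Fin 8 => (x.1.map Nat.cast).getD i 0 :=
      funext fun i => (List.getD_map (f := fun a : ℕ => (a : ℤ)) ..).symm
    rw [e, ex_toR hr, ← dN_eq] at h
    rw [ex_toR hr]
    rcases Bool.or_eq_true_iff.1 (List.all_eq_true.1 (List.all_eq_true.1 k2 x hx) r hr) with h1 | h1
    · have h2 : 0 < dN r x.1 % 9 := Nat.blt_eq.mp h1
      omega
    · exact of_decide_eq_true h1
  rcases j with j | s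
  · exact fun _ => ex_zero _
  · rw [wt_inr]
    rcases (rt_vec s).pos_or_neg with h | h
    · obtain ⟨r, hr, e⟩ := mem_pos_iff.1 ⟨rt_vec s, h⟩
      rw [e]
      exact k3 r hr
    · obtain ⟨r, hr, e⟩ := mem_pos_iff.1 ⟨(rt_vec s).neg, neg_nonneg.2 h⟩
      rw [neg_eq_iff_eq_neg.1 e, ex_neg, ex_neg]
      intro h1
      rw [k3 r hr (by omega), neg_zero]

theorem bw_srefl (k y : Q8) (i : Fin 8) : bw k (srefl chevE8 8 i y) = bw (srefl chevE8 8 i k) y := by
  have h1 : ∀ y : Q8, srefl chevE8 8 i y = y + (-y i) • cartanOf chevE8 8 i := fun y => funext fun j => by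
    rw [srefl, Pi.add_apply, Pi.smul_apply, smul_eq_mul, Int.cast_id]; ring
  rw [h1, h1, Two.bw_comm, Two.bw_add, Two.bw_add, Two.bw_smul, Two.bw_smul, Two.bw_cartan, Two.bw_cartan,
    Two.bw_comm y]
  ring

end Lt

open Lt

theorem z3 : Z3.{u} := fun _ _ y _ h hx => by
  have h1 := le_cd h hx
  obtain ⟨h2, h3, h4⟩ := mv_three y
  exact ⟨fun e => by have := h2 e; omega, fun e => by have := h3 e; omega, fun e => by have := h4 e; omega⟩

theorem k9 : K9 := by
  intro y S h1 h2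
  by_contra h3
  obtain ⟨a, y', h4, ⟨h5, h6⟩, h7⟩ := alcove (N := 9) (by norm_num)
    (P := fun y => (∀ k, (∀ j, ex y (wt j) % 9 = 0 → ex k (wt j) = 0) → bw k y = 0) ∧ ¬ ∀ i, (3 : ℤ) ∣ y i)
    (fun y i h => ⟨fun k hk => by
      rw [bw_srefl]
      refine h.1 _ fun j hj => ?_
      obtain ⟨j', e⟩ := exists_refl i j
      rw [(e k).2.1]
      exact hk j' (by rwa [(e y).1]), fun hk => h.2 fun j => by
        have h8 := hk i
        have h9 := hk j
        rw [srefl, Int.cast_id] at h8 h9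
        rw [Two.cartan_self] at h8
        have h10 : (3 : ℤ) ∣ y i := by omega
        simpa using h9.add (h10.mul_left (cartanOf chevE8 8 i j))⟩)
    ⟨fun k hk => h2 k fun j hj => hk j (Int.emod_eq_zero_of_dvd (h1 j hj)), h3⟩
  rcases pts_all ⟨a 0, by omega⟩ ⟨a 7, by omega⟩ ⟨a 1, by omega⟩ ⟨a 6, by omega⟩ ⟨a 2, by omega⟩ ⟨a 5, by omega⟩
    ⟨a 3, by omega⟩ ⟨a 4, by omega⟩ h4 with h8 | h8
  · refine h6 fun i => ?_
    have h9 : 3 ∣ a i := h8 _ (by fin_cases i <;> simp)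
    have h10 := (ZMod.intCast_eq_intCast_iff' _ _ 9).1 (h7 i)
    omega
  · obtain ⟨x, hx, e⟩ := List.mem_map.1 h8
    have e1 : (fun i : Fin 8 => ((x.1.getD i 0 : ℕ) : ℤ)) = fun i => (a i : ℤ) := by
      rw [e]
      funext i
      fin_cases i <;> rfl
    obtain ⟨h9, h10⟩ := pts_ok x hx
    rw [e1] at h9 h10
    have h11 := h5 _ fun j hj => h10 j ((ex_congr h7 _).symm.trans hj)
    refine h9 (((ZMod.intCast_eq_intCast_iff' _ _ 9).1 ?_).trans (congrArg (· % ((9 : ℕ) : ℤ)) h11))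
    unfold bw
    push_cast
    simp only [h7, Int.cast_natCast]

end Cfsg.Agent.E8A.C63
end

-- part: E8A/C63/G2A
section
set_option linter.all false
open scoped Cfsg.Agent.FastGrp

/-!
# `A₆` in characteristic 3: `LOW`, projections, the splitting lemma (helper52)

* `G2.pj A` : the projection to the weights in `A`; `br_pj`, `pj_br` (leading terms), `lead_zero`;
* `low : LOW`;
* `G2.Min g s` : `g` is perfect and all its nonzero ideals contain the noncentral element `s`; `G2.split`;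
* `G2.exists_YD` : a conjugate of the Levi subalgebra `YD`.
-/

set_option autoImplicit false
set_option maxRecDepth 100000
set_option maxHeartbeats 400000
set_option linter.unusedVariables false

namespace Cfsg.Agent.E8A.C63

open Cfsg Cfsg.Lie Module
open Cfsg.Agent.H288.E8L (Q8 wt act8 wt_inl wt_inr)
open Cfsg.Agent.H942.E8Tab (e8T)
open Cfsg.Agent.H944.Kac (srefl)
open Cfsg.Agent.ChevalleyStructure.CoxeterGeom (pairing)
open Cfsg.Agent.ChevalleyStructure.CoxeterGeomTypes (cartanOf)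
open Cfsg.Agent.E8A.Kem (Ge mem_Ge)
open Cfsg.Agent.E8A.Reg5.Cls (ex ex_refl)
open Cfsg.Agent.E8A.TwoH (br_anti br_self br_jac br_zero_left br_zero_right br_comm_zero br_br_zero finrank_LS)

universe u

namespace G2

variable {K : Type u} [Field K]

/-! ### projections -/

open Classical in
/-- the projection to the weights in `A` -/
noncomputable def pj (A : Set Q8) : L8 K →ₗ[K] L8 K where
  toFun v := fun i => if wt i ∈ A then v i else 0
  map_add' v w := funext fun i => by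
    simp only [Pi.add_apply]
    split_ifs <;> simp
  map_smul' c v := funext fun i => by
    simp only [Pi.smul_apply, RingHom.id_apply]
    split_ifs <;> simp

variable {A B : Set Q8} {v : L8 K}

theorem pj_pos (v : L8 K) {i : chevE8.Idx} (h : wt i ∈ A) : pj A v i = v i := if_pos h

theorem pj_neg (v : L8 K) {i : chevE8.Idx} (h : wt i ∉ A) : pj A v i = 0 := if_neg h

theorem pj_mem (A : Set Q8) (v : L8 K) : pj A v ∈ LS K A := fun i hi => by
  by_contra h
  exact hi (pj_neg v h)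

theorem pj_LS (hv : v ∈ LS K B) (A : Set Q8) : pj A v ∈ LS K B := fun i hi => by
  by_cases h : wt i ∈ A
  · exact hv i (by rwa [pj_pos v h] at hi)
  · exact absurd (pj_neg v h) hi

theorem sub_pj (A : Set Q8) (v : L8 K) : v - pj A v ∈ LS K Aᶜ := fun i hi h => hi (by
  rw [Pi.sub_apply, pj_pos v h, sub_self])

theorem pj_of_mem (hv : v ∈ LS K A) : pj A v = v := funext fun i => by
  by_cases h : wt i ∈ A
  · exact pj_pos v h
  · rw [pj_neg v h, LS_zero hv h]

theorem pj_eq_zero (hv : v ∈ LS K B) (h : ∀ a ∈ B, a ∉ A) : pj A v = 0 :=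
  eq_zero_of_LS (pj_LS hv A) (pj_mem A v) h

theorem mem_inter (h : v ∈ LS K A) (h' : v ∈ LS K B) : v ∈ LS K (A ∩ B) := fun i hi => ⟨h i hi, h' i hi⟩

/-- the components of an element of the centralizer of a homogeneous element -/
theorem br_pj {l : Q8 →+ ℝ} {k : ℝ} {s : L8 K} (hs : s ∈ LS K (Eq' l k)) (h : br s v = 0) (P : ℝ → Prop) :
    br s (pj {a | P (l a)} v) = 0 := by
  have h1 : br s (pj {a | P (l a)} v) ∈ LS K {a | P (l a - k)} :=
    br_LS (fun a ha b hb => by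
      show P (l (a + b) - k)
      rwa [map_add, mem_Eq.1 ha, add_sub_cancel_left]) hs (pj_mem _ v)
  have h2 : br s (v - pj {a | P (l a)} v) ∈ LS K {a | ¬ P (l a - k)} :=
    br_LS (fun a ha b hb => by
      show ¬ P (l (a + b) - k)
      rwa [map_add, mem_Eq.1 ha, add_sub_cancel_left]) hs (sub_pj _ v)
  rw [br_sub_right, h, zero_sub] at h2
  exact eq_zero_of_LS h1 (neg_mem_iff.1 h2) fun a ha hb => hb ha

theorem sub_pj_gt {l : Q8 →+ ℝ} {c : ℝ} (h : v ∈ LS K (Ge l c)) : v - pj (Eq' l c) v ∈ LS K {a | c < l a} :=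
  LS_mono (fun a ha => lt_of_le_of_ne ha.1 fun e => ha.2 e.symm)
    (mem_inter (sub_mem h (pj_LS h _)) (sub_pj _ v))

/-- leading terms -/
theorem pj_br {l : Q8 →+ ℝ} {c c' : ℝ} {x y : L8 K} (hx : x ∈ LS K (Ge l c)) (hy : y ∈ LS K (Ge l c')) :
    pj (Eq' l (c + c')) (br x y) = br (pj (Eq' l c) x) (pj (Eq' l c') y) := by
  have e : br x y = br (pj (Eq' l c) x) (pj (Eq' l c') y) +
      (br (pj (Eq' l c) x) (y - pj (Eq' l c') y) + br (x - pj (Eq' l c) x) y) := by
    rw [br_sub_left, br_sub_right]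
    abel
  have h1 : br (pj (Eq' l c) x) (pj (Eq' l c') y) ∈ LS K (Eq' l (c + c')) :=
    br_LS (fun a ha b hb => by rw [mem_Eq, map_add, mem_Eq.1 ha, mem_Eq.1 hb]) (pj_mem _ x) (pj_mem _ y)
  have h2 : br (pj (Eq' l c) x) (y - pj (Eq' l c') y) + br (x - pj (Eq' l c) x) y ∈ LS K {a | c + c' < l a} :=
    add_mem (br_LS (fun a ha b hb => by
      show c + c' < l (a + b)
      rw [map_add, mem_Eq.1 ha]
      exact add_lt_add_right hb _) (pj_mem _ x) (sub_pj_gt hy)) (br_LS (fun a ha b hb => by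
      show c + c' < l (a + b)
      rw [map_add]
      exact add_lt_add_of_lt_of_le ha hb) (sub_pj_gt hx) hy)
  rw [e, map_add, pj_of_mem h1, pj_eq_zero (A := Eq' l (c + c')) h2 fun a ha hb => ne_of_gt ha hb, add_zero]

theorem br_Ge {l : Q8 →+ ℝ} {c c' : ℝ} {x y : L8 K} (hx : x ∈ LS K (Ge l c)) (hy : y ∈ LS K (Ge l c')) :
    br x y ∈ LS K (Ge l (c + c')) :=
  br_LS (fun a ha b hb => by rw [mem_Ge, map_add]; exact add_le_add ha hb) hx hy

/-- the leading term of an element of cube zero is not toral -/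
theorem lead_zero {l : Q8 →+ ℝ} {x : L8 K} (hx : x ∈ LS K (Ge l 0)) (hc : Cz x) (ht : InT (pj (Eq' l 0) x)) :
    pj (Eq' l 0) x = 0 := by
  refine eq_zero_of_rl ht fun r => ?_
  have h0 : ee K (Sum.inr r) ∈ LS K (Eq' l (l (wt (Sum.inr r)))) := ee_mem_LS rfl
  have h1 := Eq_le_Ge h0
  have h2 := pj_br hx (br_Ge hx (br_Ge hx h1))
  rw [hc.br3, map_zero, pj_br hx (br_Ge hx h1), pj_br hx h1, pj_of_mem h0, br_T_ee ht, br_smul_right, br_smul_right,
    br_T_ee ht, br_smul_right, br_T_ee ht, smul_smul, smul_smul] at h2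
  have h3 := (smul_eq_zero.1 h2.symm).resolve_right (ee_ne_zero _)
  simpa using h3

/-! ### Levi subalgebras -/

theorem pcl_LS (h0 : (0 : Q8) ∈ A) (ha : ∀ a ∈ A, ∀ b ∈ A, a + b ∈ A) : PCl (LS K A) := by
  refine ⟨fun x hx y hy => br_LS ha hx hy, fun x hx y hy i hi => ?_⟩
  rcases i with i | s
  · exact h0
  obtain ⟨j, hj⟩ := exists_cartan_ne (K := K) s
  have h1 : br x (br x (br x (ee K (Sum.inl j)))) ∈ LS K A :=
    br_LS ha hx (br_LS ha hx (br_LS ha hx (ee_mem_LS (i := Sum.inl j) h0)))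
  refine h1 _ ?_
  have h2 : adm x ^ 3 = adm x * (adm x * adm x) := by rw [pow_succ', pow_two]
  unfold br
  rw [Matrix.mulVec_mulVec, Matrix.mulVec_mulVec, mul_assoc, ← h2, ← hy, mulVec_ee, adm_inr_inl]
  exact neg_ne_zero.2 (mul_ne_zero hj hi)

theorem rank_cube {V : Type*} [AddCommGroup V] [Module K V] [FiniteDimensional K V] {D : Module.End K V}
    (h : ∀ v, D (D (D v)) = 0) {T : Submodule K V} (h1 : T ≤ LinearMap.ker D) (h2 : Disjoint (LinearMap.range D) T) :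
    finrank K V + 2 * finrank K T ≤ 3 * finrank K (LinearMap.ker D) := by
  have e1 := LinearMap.finrank_range_add_finrank_ker D
  have e2 := Lt.fr D (LinearMap.range D)
  have e3 : finrank K ((LinearMap.range D).map D) ≤ finrank K ↥(LinearMap.range D ⊓ LinearMap.ker D) :=
    Submodule.finrank_mono (by
      rintro _ ⟨_, ⟨v, rfl⟩, rfl⟩
      exact ⟨⟨_, rfl⟩, h v⟩)
  have e4 := Submodule.finrank_sup_add_finrank_inf_eq (LinearMap.range D ⊓ LinearMap.ker D) T
  rw [(h2.mono_left inf_le_left).eq_bot, finrank_bot, add_zero] at e4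
  have e5 : finrank K ↥(LinearMap.range D ⊓ LinearMap.ker D ⊔ T) ≤ finrank K (LinearMap.ker D) :=
    Submodule.finrank_mono (sup_le inf_le_right h1)
  omega

theorem cd_ge {x : L8 K} (hx : x ∈ LS K A) (hc : Cz x) [DecidablePred (· ∈ B)]
    (h : ∀ i j, wt i ∈ B ∨ wt j ∈ B → ∀ a ∈ A, wt i = a + wt j → i = j) :
    248 + 2 * (Finset.univ.filter fun i : chevE8.Idx => wt i ∈ B).card ≤ 3 * cd x := by
  have h1 : ∀ i j, wt i ∈ B ∨ wt j ∈ B → adm x i j ≠ 0 → i = j := fun i j hij e => by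
    obtain ⟨k, hk, e'⟩ := adm_wt e
    exact h i j hij _ (hx k hk) e'
  have h2 : ∀ j, wt j ∈ B → adm x j j = 0 := fun j hj => by
    have h3 : br x (ee K j) = adm x j j • ee K j := funext fun i => by
      rw [br, mulVec_ee, Pi.smul_apply, smul_eq_mul]
      by_cases e : i = j
      · rw [e, ee_self, mul_one]
      · rw [ee_ne e, mul_zero]
        by_contra e'
        exact e (h1 i j (Or.inr hj) e')
    have h4 := hc.br3 (ee K j)
    rw [h3, br_smul_right, h3, br_smul_right, br_smul_right, h3, smul_smul, smul_smul] at h4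
    have h5 := (smul_eq_zero.1 h4).resolve_right (ee_ne_zero _)
    simpa using h5
  have h3 : ∀ i j, adm x i j ≠ 0 → wt i ∉ B ∧ wt j ∉ B := fun i j e =>
    ⟨fun hi => e (by have := h1 i j (Or.inl hi) e; subst this; exact h2 _ hi),
      fun hj => e (by have := h1 i j (Or.inr hj) e; subst this; exact h2 _ hj)⟩
  have h4 := rank_cube (D := TwoH.brL K x) hc.br3 (T := LS K B) (fun v hv => funext fun i => by
      by_contra e
      obtain ⟨j, e1, e2⟩ := exists_ne_of_mulVec e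
      exact (h3 i j e1).2 (hv j e2))
    ((Lt.disj (A := Bᶜ) fun a ha => ha).mono_left (by
      rintro _ ⟨v, rfl⟩ i e
      obtain ⟨j, e1, -⟩ := exists_ne_of_mulVec e
      exact (h3 i j e1).1))
  rw [Inf.finrank_L8, finrank_LS] at h4
  have h5 : LinearMap.ker (TwoH.brL K x) = cen {x} := Submodule.ext fun v => mem_cen_one.symm
  rwa [h5] at h4

/-- the roots orthogonal to four fundamental roots -/
def Orth (l : List (Fin 8)) : Set Q8 := {a | a ≠ 0 ∧ ∀ i ∈ l, pairing (cartanOf chevE8 8) i a = 0}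

instance decOrth (l : List (Fin 8)) : DecidablePred (· ∈ Orth l) := fun a =>
  inferInstanceAs (Decidable (a ≠ 0 ∧ ∀ i ∈ l, pairing (cartanOf chevE8 8) i a = 0))

private noncomputable def _root_.Cfsg.Agent.LsF.f3fb8d2_4 : {f // @Cfsg.Agent.ChevalleyStructure.RootVecTab.dig = f} := ⟨_, by first | (delta Cfsg.Agent.ChevalleyStructure.RootVecTab.dig; rewrite [Cfsg.Agent.LsF.nmul_pat]; exact rfl) | exact rfl⟩
private noncomputable def _root_.Cfsg.Agent.LsF.f3fb8d2_5 : {f // @Cfsg.Agent.ChevalleyStructure.RootVecTab.packTab = f} := ⟨_, by first | (delta Cfsg.Agent.ChevalleyStructure.RootVecTab.packTab; rewrite [Cfsg.Agent.LsF.instDecEq_eq, Cfsg.Agent.LsF.ite_eq]; exact rfl) | exact rfl⟩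
private noncomputable def _root_.Cfsg.Agent.LsF.f3fb8d2_6 : {f // @Cfsg.Agent.ChevalleyStructure.RootVecTab.code = f} := ⟨_, by first | (delta Cfsg.Agent.ChevalleyStructure.RootVecTab.code; rewrite [Cfsg.Agent.LsF.f3fb8d2_5.2, Cfsg.Agent.LsF.nmul_pat, Cfsg.Agent.LsF.npow_pat]; exact rfl) | exact rfl⟩
private noncomputable def _root_.Cfsg.Agent.LsF.f3fb8d2_7 : {f // @Cfsg.Agent.ChevalleyStructure.RootVec.rt = f} := ⟨_, by first | (delta Cfsg.Agent.ChevalleyStructure.RootVec.rt; rewrite [Cfsg.Agent.LsF.f3fb8d2_4.2, Cfsg.Agent.LsF.f3fb8d2_6.2, Cfsg.Agent.LsF.nsub_pat, Cfsg.Agent.LsF.isub_pat, Cfsg.Agent.LsF.icast_pat, Cfsg.Agent.LsF.decLt_eq, Cfsg.Agent.LsF.dAnd_eq, Cfsg.Agent.LsF.ite_eq]; exact rfl) | exact rfl⟩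
private noncomputable def _root_.Cfsg.Agent.LsF.f3fb8d2_8 : {f // @Cfsg.Agent.Nodes.RGDChev.vec = f} := ⟨_, by first | (delta Cfsg.Agent.Nodes.RGDChev.vec; rewrite [Cfsg.Agent.LsF.f3fb8d2_7.2]; exact rfl) | exact rfl⟩
private noncomputable def _root_.Cfsg.Agent.LsF.f3fb8d2_9 : {f // @Cfsg.Agent.H288.E8L.wt = f} := ⟨_, by first | (delta Cfsg.Agent.H288.E8L.wt; rewrite [Cfsg.Agent.LsF.f3fb8d2_8.2]; exact rfl) | exact rfl⟩
theorem orth_D : (Finset.univ.filter fun i : chevE8.Idx => wt i ∈ Orth [1, 2, 3, 4]).card = 24 ∧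
    ∀ j : chevE8.Idx, wt j ∈ Orth [1, 2, 3, 4] → ∀ i : chevE8.Idx, wt i 0 = wt j 0 → wt i 5 = wt j 5 → wt i 6 = wt j 6 →
      wt i 7 = wt j 7 → i = j := by (refine of_decide_eq_true ?_; (try (delta Cfsg.Agent.ChevalleyStructure.CoxeterGeom.pairing Cfsg.Agent.E8A.C63.G2.decOrth Cfsg.Agent.E8A.C63.G2.decOrth._aux_1; rewrite [Cfsg.Agent.LsF.f3fb8d2_9.2, Cfsg.Agent.LsF.dForall_eq, Cfsg.Agent.LsF.dPi_eq, Cfsg.Agent.LsF.fcard_eq, Cfsg.Agent.LsF.ffilter_eq, Cfsg.Agent.LsF.instDecEq_eq, Cfsg.Agent.LsF.instIDecEq_eq, Cfsg.Agent.LsF.dAnd_eq, Cfsg.Agent.LsF.dNot_eq, Cfsg.Agent.LsF.dImp_eq, Cfsg.Agent.LsF.dMem_eq, Cfsg.Agent.LsF.dForallFin_eq, Cfsg.Agent.LsF.decide_eq])); decide +kernel)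

theorem orth_A : (Finset.univ.filter fun i : chevE8.Idx => wt i ∈ Orth [0, 1, 2, 3]).card = 20 ∧
    ∀ j : chevE8.Idx, wt j ∈ Orth [0, 1, 2, 3] → ∀ i : chevE8.Idx, wt i 4 = wt j 4 → wt i 5 = wt j 5 → wt i 6 = wt j 6 →
      wt i 7 = wt j 7 → i = j := by (refine of_decide_eq_true ?_; (try (delta Cfsg.Agent.ChevalleyStructure.CoxeterGeom.pairing Cfsg.Agent.E8A.C63.G2.decOrth Cfsg.Agent.E8A.C63.G2.decOrth._aux_1; rewrite [Cfsg.Agent.LsF.f3fb8d2_9.2, Cfsg.Agent.LsF.dForall_eq, Cfsg.Agent.LsF.dPi_eq, Cfsg.Agent.LsF.fcard_eq, Cfsg.Agent.LsF.ffilter_eq, Cfsg.Agent.LsF.instDecEq_eq, Cfsg.Agent.LsF.instIDecEq_eq, Cfsg.Agent.LsF.dAnd_eq, Cfsg.Agent.LsF.dNot_eq, Cfsg.Agent.LsF.dImp_eq, Cfsg.Agent.LsF.dMem_eq, Cfsg.Agent.LsF.dForallFin_eq, Cfsg.Agent.LsF.decide_eq])); decide +kernel)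

theorem cd_ge' {x : L8 K} {p q r s : Fin 8} (hx : x ∈ LS K {a | a p = 0 ∧ a q = 0 ∧ a r = 0 ∧ a s = 0}) (hc : Cz x)
    {l : List (Fin 8)} {n : ℕ} (h : (Finset.univ.filter fun i : chevE8.Idx => wt i ∈ Orth l).card = n ∧
      ∀ j : chevE8.Idx, wt j ∈ Orth l → ∀ i : chevE8.Idx, wt i p = wt j p → wt i q = wt j q → wt i r = wt j r →
        wt i s = wt j s → i = j) : 248 + 2 * n ≤ 3 * cd x := by
  rw [← h.1]
  refine cd_ge hx hc fun i j hij a ha e => ?_
  have h1 : ∀ t, a t = 0 → wt i t = wt j t := fun t ht => by rw [e, Pi.add_apply, ht, zero_add]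
  rcases hij with hi | hj
  · exact (h.2 i hi j (h1 _ ha.1).symm (h1 _ ha.2.1).symm (h1 _ ha.2.2.1).symm (h1 _ ha.2.2.2).symm).symm
  · exact h.2 j hj i (h1 _ ha.1) (h1 _ ha.2.1) (h1 _ ha.2.2.1) (h1 _ ha.2.2.2)

theorem pcl4 (p q r s : Fin 8) : PCl (LS K {a | a p = 0 ∧ a q = 0 ∧ a r = 0 ∧ a s = 0}) :=
  pcl_LS ⟨rfl, rfl, rfl, rfl⟩ fun a ha b hb => ⟨by rw [Pi.add_apply, ha.1, hb.1, add_zero],
    by rw [Pi.add_apply, ha.2.1, hb.2.1, add_zero], by rw [Pi.add_apply, ha.2.2.1, hb.2.2.1, add_zero],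
    by rw [Pi.add_apply, ha.2.2.2, hb.2.2.2, add_zero]⟩

/-! ### a conjugate of `YD` -/

theorem conj_ex (i : Fin 8) (y : Q8) (hv : v ∈ LS K {a | ex (srefl chevE8 8 i y) a = 0}) :
    act (KFacts.RgdChevCoord.nc e8T K i) v ∈ LS K {a | ex y a = 0} :=
  mulVec_LS (fun a b hab hb => by
    show ex y (wt a) = 0
    rw [nc_wt i hab, ex_refl]
    exact hb) hv

private noncomputable def _root_.Cfsg.Agent.LsF.f3fb8d2_10 : {f // @Cfsg.Agent.E8A.Reg5.Cls.ex = f} := ⟨_, by first | (delta Cfsg.Agent.E8A.Reg5.Cls.ex; rewrite [Cfsg.Agent.LsF.imul_pat, Cfsg.Agent.LsF.finFintype_eq, Cfsg.Agent.LsF.fsum_eq, Cfsg.Agent.LsF.iACM_eq]; exact rfl) | exact rfl⟩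
theorem yd_chk : ∀ j : chevE8.Idx, ex ![1, 0, 0, 0, 0, 1, 1, 1] (wt j) = 0 →
    wt j 0 = 0 ∧ wt j 5 = 0 ∧ wt j 6 = 0 ∧ wt j 7 = 0 := by (refine of_decide_eq_true ?_; (try (rewrite [Cfsg.Agent.LsF.f3fb8d2_10.2, Cfsg.Agent.LsF.f3fb8d2_9.2, Cfsg.Agent.LsF.vecCons_eq, Cfsg.Agent.LsF.finFintype_eq, Cfsg.Agent.LsF.dForall_eq, Cfsg.Agent.LsF.instIDecEq_eq, Cfsg.Agent.LsF.dAnd_eq, Cfsg.Agent.LsF.decide_eq])); decide +kernel)

/-- the cocharacter which vanishes on the roots of the algebra `G₂` -/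
def y4 : Q8 := ![1, 0, 1, -2, 1, 1, 2, 1]

theorem y4_eq : y4 = [(3 : Fin 8), 1, 2, 3, 4, 3, 2, 0, 5].foldr (srefl chevE8 8) ![1, 0, 0, 0, 0, 1, 1, 1] := by
  (delta Cfsg.Agent.ChevalleyStructure.CoxeterGeomTypes.cartanOf Cfsg.Agent.H944.Kac.srefl; rewrite [Cfsg.Agent.ChevFast.E8.cartan]; decide +kernel)

theorem exists_YD : ∃ n : G8 K, ∀ v ∈ LS K {a | ex y4 a = 0}, act n v ∈ YD K := by
  rw [y4_eq]
  induction [(3 : Fin 8), 1, 2, 3, 4, 3, 2, 0, 5] with
  | nil => exact ⟨1, fun v hv i hi => yd_chk i (hv i (by rwa [act_one] at hi))⟩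
  | cons i l ih =>
    obtain ⟨n, hn⟩ := ih
    exact ⟨n * KFacts.RgdChevCoord.nc e8T K i, fun v hv => by rw [act_mul]; exact hn _ (conj_ex i _ hv)⟩

/-! ### centralizers -/

variable {ψ : Alt 6 →* G8 K}

theorem sa_cen (S : Set (L8 K)) : Sa (cen S) := fun x hx y hy s hs => br_br_zero (hx s hs) (hy s hs)

theorem cen_span (S : Set (L8 K)) : cen (Submodule.span K S : Set (L8 K)) = cen S := by
  refine le_antisymm (fun v hv s hs => hv s (Submodule.subset_span hs)) fun v hv s hs => ?_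
  have h1 : Submodule.span K S ≤ cen {v} := Submodule.span_le.2 fun s hs => mem_cen_one.2 (br_comm_zero (hv s hs))
  exact br_comm_zero (mem_cen_one.1 (h1 hs))

theorem inv_cen {U : Submodule K (L8 K)} (h : Inv ψ U) : Inv ψ (cen (U : Set (L8 K))) := fun a v hv s hs => by
  have h1 := hv _ (h a⁻¹ s hs)
  rw [← act_inv' (ψ a) s, ← act_br, ← map_inv, h1, act_zero]

/-- a perfect algebra whose nonzero ideals contain the noncentral element `s` -/
structure Min (g : Submodule K (L8 K)) (s : L8 K) : Prop where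
  sa : Sa g
  perf : g ≤ Submodule.span K {z | ∃ x ∈ g, ∃ y ∈ g, z = br x y}
  min : ∀ I ≤ g, I ≠ ⊥ → (∀ x ∈ g, ∀ y ∈ I, br x y ∈ I) → s ∈ I
  nc : ∃ x ∈ g, br x s ≠ 0

variable {g c : Submodule K (L8 K)} {s : L8 K}

theorem Min.centre (H : Min g s) (hv : v ∈ g) (hv' : v ∈ cen (g : Set (L8 K))) : v = 0 := by
  by_contra h
  obtain ⟨x, hx, h1⟩ := H.nc
  exact h1 ((H.min (g ⊓ cen g) inf_le_left ((Submodule.ne_bot_iff _).2 ⟨v, ⟨hv, hv'⟩, h⟩) fun x hx y hy => by
    rw [hy.2 x hx]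
    exact zero_mem _).2 x hx)

/-- a subspace which the algebra normalises and on which its elements commute -/
theorem Min.kill (H : Min g s) (h : ∀ x ∈ g, br x v ∈ cen (g : Set (L8 K))) : v ∈ cen (g : Set (L8 K)) := fun x hx => by
  have h1 : Submodule.span K {z | ∃ x ∈ g, ∃ y ∈ g, z = br x y} ≤ cen {v} := Submodule.span_le.2 (by
    rintro _ ⟨x, hx, y, hy, rfl⟩
    refine mem_cen_one.2 (br_comm_zero ?_)
    rw [br_jac, h y hy x hx, h x hx y hy, sub_zero])
  exact br_comm_zero (mem_cen_one.1 (h1 (H.perf hx)))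

theorem Min.ideal (H : Min g s) {x y : L8 K} (hx : x ∈ g ⊔ cen (g : Set (L8 K))) (hy : y ∈ g) : br x y ∈ g := by
  obtain ⟨a, ha, b, hb, rfl⟩ := Submodule.mem_sup.1 hx
  rw [br_add_left, br_comm_zero (hb y hy), add_zero]
  exact H.sa a ha y hy

theorem ideal_cen {x y : L8 K} (hx : x ∈ g ⊔ cen (g : Set (L8 K))) (hy : y ∈ cen (g : Set (L8 K))) :
    br x y ∈ cen (g : Set (L8 K)) := by
  obtain ⟨a, ha, b, hb, rfl⟩ := Submodule.mem_sup.1 hx
  rw [br_add_left, hy a ha, zero_add]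
  exact sa_cen _ b hb y hy

theorem Min.split1 (H : Min g s) (h1 : g ≤ c) (h2 : c ≤ g ⊔ cen (g : Set (L8 K))) {t : G8 K} (ht : ∀ v ∈ c, act t v ∈ c)
    (ht' : ∀ v ∈ c, act t⁻¹ v ∈ c) : (∀ x ∈ g, act t x ∈ g) ∨ ∀ x ∈ g, act t x ∈ cen (g : Set (L8 K)) := by
  have h3 : g ≤ g ⊓ pb t g ⊔ g ⊓ pb t (cen g) := H.perf.trans (Submodule.span_le.2 (by
    rintro _ ⟨x, hx, y, hy, rfl⟩
    obtain ⟨a, ha, b, hb, e⟩ := Submodule.mem_sup.1 (h2 (ht y (h1 hy)))
    have e1 : y = act t⁻¹ a + act t⁻¹ b := by rw [← act_add, e, act_inv]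
    have e2 : br x (act t⁻¹ a) ∈ g := by
      rw [br_anti]
      exact neg_mem (H.ideal (h2 (ht' a (h1 ha))) hx)
    refine Submodule.mem_sup.2 ⟨br x (act t⁻¹ a), ⟨e2, ?_⟩, br x (act t⁻¹ b), ⟨?_, ?_⟩, by rw [← br_add_right, ← e1]⟩
    · show act t _ ∈ g
      rw [act_br, act_inv']
      exact H.ideal (h2 (ht x (h1 hx))) ha
    · have e3 : br x (act t⁻¹ b) = br x y - br x (act t⁻¹ a) := by rw [← br_sub_right, e1, add_sub_cancel_left]
      show _ ∈ g
      rw [e3]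
      exact sub_mem (H.sa x hx y hy) e2
    · show act t _ ∈ cen _
      rw [act_br, act_inv']
      exact ideal_cen (h2 (ht x (h1 hx))) hb))
  by_cases h4 : g ⊓ pb t g = ⊥
  · rw [h4, bot_sup_eq] at h3
    exact Or.inr fun x hx => (h3 hx).2
  by_cases h5 : g ⊓ pb t (cen g) = ⊥
  · rw [h5, sup_bot_eq] at h3
    exact Or.inl fun x hx => (h3 hx).2
  have h6 := H.min _ inf_le_left h4 fun x hx y hy => ⟨H.sa x hx y hy.1, by
    show act t _ ∈ g
    rw [act_br]
    exact H.ideal (h2 (ht x (h1 hx))) hy.2⟩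
  have h7 := H.min _ inf_le_left h5 fun x hx y hy => ⟨H.sa x hx y hy.1, by
    show act t _ ∈ cen _
    rw [act_br]
    exact ideal_cen (h2 (ht x (h1 hx))) hy.2⟩
  obtain ⟨x, -, h8⟩ := H.nc
  rw [act_eq_zero (H.centre h6.2 h7.2), br_zero_right] at h8
  exact absurd rfl h8

theorem Min.split3 (H : Min g s) (h1 : g ≤ c) (h2 : c ≤ g ⊔ cen (g : Set (L8 K))) (hd : finrank K c < 3 * finrank K g)
    {t : G8 K} (ht : ∀ v ∈ c, act t v ∈ c) (ht' : ∀ v ∈ c, act t⁻¹ v ∈ c) (h3 : t * t = t⁻¹) : ∀ x ∈ g, act t x ∈ g := by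
  refine (H.split1 h1 h2 ht ht').resolve_right fun h4 => ?_
  rcases H.split1 h1 h2 ht' (by rwa [inv_inv]) with h5 | h5
  · obtain ⟨x, hx, h6⟩ := H.nc
    have h7 : act t x = act t⁻¹ (act t⁻¹ x) := by rw [← act_mul, ← _root_.mul_inv_rev, h3, inv_inv]
    rw [act_eq_zero (H.centre (h7 ▸ h5 _ (h5 x hx)) (h4 x hx)), br_zero_left] at h6
    exact h6 rfl
  have e1 : pb t⁻¹ g ⊔ pb t g ≤ cen g ⊓ c := sup_le
    (fun v hv => by rw [← act_inv' t v]; exact ⟨h4 _ hv, ht _ (h1 hv)⟩)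
    fun v hv => by rw [← act_inv t v]; exact ⟨h5 _ hv, ht' _ (h1 hv)⟩
  have e2 := Submodule.finrank_sup_add_finrank_inf_eq (pb t⁻¹ g) (pb t g)
  have e3 := Submodule.finrank_sup_add_finrank_inf_eq g (pb t⁻¹ g ⊔ pb t g)
  have e4 : pb t⁻¹ g ⊓ pb t g = ⊥ := (Submodule.eq_bot_iff _).2 fun v hv =>
    act_eq_zero (g := t⁻¹) (H.centre (mem_pb.1 hv.1) (by rw [← h3, act_mul]; exact h4 _ hv.2))
  have e5 : g ⊓ (pb t⁻¹ g ⊔ pb t g) = ⊥ := (Submodule.eq_bot_iff _).2 fun v hv => H.centre hv.1 (e1 hv.2).1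
  have e6 : finrank K ↥(g ⊔ (pb t⁻¹ g ⊔ pb t g)) ≤ finrank K c :=
    Submodule.finrank_mono (sup_le h1 (e1.trans inf_le_right))
  rw [e4, finrank_bot, finrank_pb, finrank_pb] at e2
  rw [e5, finrank_bot] at e3
  omega

/-- **the splitting lemma** -/
theorem Min.split (H : Min g s) (hc : Inv ψ c) (h1 : g ≤ c) (h2 : c ≤ g ⊔ cen (g : Set (L8 K)))
    (hd : finrank K c < 3 * finrank K g) : Inv ψ g := by
  have h3 : ∀ a : Alt 6, a ^ 3 = 1 → ∀ x ∈ g, act (ψ a) x ∈ g := fun a ha =>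
    H.split3 h1 h2 hd (hc a) (by rw [← map_inv]; exact hc _) (by
      rw [eq_inv_iff_mul_eq_one, ← map_mul, ← map_mul, ← pow_three', ha, map_one])
  have h4 : alternatingGroup (Fin 6) ≤ ((stabL g).comap ψ).map (alternatingGroup (Fin 6)).subtype := by
    conv_lhs => rw [← Equiv.Perm.closure_three_cycles_eq_alternating]
    refine (Subgroup.closure_le _).2 fun σ hσ => ?_
    have h5 : (⟨σ, Equiv.Perm.IsThreeCycle.mem_alternatingGroup hσ⟩ : Alt 6) ^ 3 = 1 := Subtype.ext (by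
      have := pow_orderOf_eq_one σ
      rwa [Equiv.Perm.IsThreeCycle.orderOf hσ] at this)
    refine ⟨⟨σ, Equiv.Perm.IsThreeCycle.mem_alternatingGroup hσ⟩, mem_stabL.2 ⟨h3 _ h5, ?_⟩, rfl⟩
    rw [← map_inv]
    exact h3 _ (by rw [inv_pow, h5, inv_one])
  intro a
  obtain ⟨b, hb, e⟩ := h4 a.2
  rw [← show b = a from Subtype.ext e]
  exact (mem_stabL.1 hb).1

end G2

open G2

/-- **LOW** -/
theorem low : LOW.{u} := fun K _ _ => ⟨pcl4 0 5 6 7, pcl4 4 5 6 7,
  fun x hx hc => by have := cd_ge' hx hc orth_D; omega, fun x hx hc => by have := cd_ge' hx hc orth_A; omega⟩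

end Cfsg.Agent.E8A.C63
end

-- part: E8A/C63/ScA
section
set_option linter.all false
open scoped Cfsg.Agent.FastGrp

/-!
# `A₆` in characteristic 3: the optimal grading of an invariant `sl₂` (helper13)

* `rat_of_perp`, `exists_N` : the grading is rational;
* `Lv l l' x` : `x` maps the pieces of `l` to the pieces of `l'`; `Lv.diag`, `blk`;
* `Gr l e h f` : an optimal grading; `Gr.up`, `Gr.lv`, `Gr.perp`.
-/

set_option autoImplicit false
set_option maxRecDepth 100000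

namespace Cfsg.Agent.E8A.C63

open Cfsg Cfsg.Lie Module
open Cfsg.Agent.H288.E8L (Q8 wt wt_inl wt_inr)
open Cfsg.Agent.Tits.Roots (sr)
open Cfsg.Agent.ChevalleyStructure.CoxeterGeomTypes (cartanOf)
open Cfsg.Agent.H897.T5Lat (bf_apply)
open Cfsg.Agent.E8A.Frm (B0)
open Cfsg.Agent.E8A.Kem (Ge nrm mem_Ge)
open Cfsg.Agent.E8A.Par (KS Opt Up up_of_LS)
open Cfsg.Agent.E8A.Reg5.Cls (ex dz)
open Cfsg.Agent.E8A.Reg5.Aut (si vec_si)
open Cfsg.Agent.E8A.Two (bw nm)

universe u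

namespace Sc

/-! ### the form -/

theorem wt_si (i : Fin 8) : wt (Sum.inr (si i)) = sr i := by rw [wt_inr, vec_si]

theorem B2_comm (a b : Q8 →+ ℝ) : B2 a b = B2 b a := Finset.sum_congr rfl fun _ _ => mul_comm _ _

theorem B2_add (a b c : Q8 →+ ℝ) : B2 (a + b) c = B2 a c + B2 b c := by
  simp only [B2, AddMonoidHom.add_apply, add_mul, Finset.sum_add_distrib]

theorem B2_smul (t : ℝ) (a c : Q8 →+ ℝ) : B2 (t • a) c = t * B2 a c := by
  simp only [B2, AddMonoidHom.smul_apply, smul_eq_mul, Finset.mul_sum, mul_assoc]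

theorem B2_sub (a b c : Q8 →+ ℝ) : B2 (a - b) c = B2 a c - B2 b c := by
  simp only [B2, AddMonoidHom.sub_apply, sub_mul, Finset.sum_sub_distrib]

theorem B2_eq_zero {a : Q8 →+ ℝ} (h : B2 a a = 0) : a = 0 := by
  refine Frm.hom_ext fun i => ?_
  have h1 := (Finset.sum_eq_zero_iff_of_nonneg fun j _ => mul_self_nonneg (a (wt j))).1 h (Sum.inr (si i))
    (Finset.mem_univ _)
  rw [wt_si] at h1
  exact mul_self_eq_zero.1 h1

theorem cl_add (a b : Q8) : cl (a + b) = cl a + cl b := AddMonoidHom.ext fun x => by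
  simp [cl_apply, ex, mul_add, Finset.sum_add_distrib]

theorem B2_cl (hN : NRM) (a b : Q8) : B2 (cl a) (cl b) = 60 * (bw a b : ℝ) := by
  have h1 := hN.2 (a + b)
  rw [cl_add, B2_add, B2_comm (cl a), B2_comm (cl b), B2_add, B2_add, hN.2, hN.2, Two.nm_add, B2_comm (cl b)] at h1
  push_cast at h1
  linarith

theorem nrm_neg (hN : NRM) (l : Q8 →+ ℝ) : nrm (-l) = nrm l := by
  obtain ⟨c, -, h⟩ := hN.1
  rw [h, h, ← neg_one_smul ℝ l, B2_smul, B2_comm, B2_smul]
  ring

theorem nrm_le_iff (hN : NRM) {l l' : Q8 →+ ℝ} : nrm l ≤ nrm l' ↔ B2 l l ≤ B2 l' l' := by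
  obtain ⟨c, h0, h⟩ := hN.1
  rw [h, h, mul_le_mul_iff_right₀ h0]

theorem even_nm (y : Q8) : ∃ m : ℤ, nm y = 2 * m := by
  refine ⟨2 * y 0 ^ 2 + 4 * y 1 ^ 2 + 7 * y 2 ^ 2 + 15 * y 3 ^ 2 + 10 * y 4 ^ 2 + 6 * y 5 ^ 2 + 3 * y 6 ^ 2 + y 7 ^ 2 +
    y 0 * (5 * y 1 + 7 * y 2 + 10 * y 3 + 8 * y 4 + 6 * y 5 + 4 * y 6 + 2 * y 7) +
    y 1 * (10 * y 2 + 15 * y 3 + 12 * y 4 + 9 * y 5 + 6 * y 6 + 3 * y 7) +
    y 2 * (20 * y 3 + 16 * y 4 + 12 * y 5 + 8 * y 6 + 4 * y 7) + y 3 * (24 * y 4 + 18 * y 5 + 12 * y 6 + 6 * y 7) +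
    y 4 * (15 * y 5 + 10 * y 6 + 5 * y 7) + y 5 * (8 * y 6 + 4 * y 7) + y 6 * (3 * y 7), ?_⟩
  simp [nm, bw, B8, Fin.sum_univ_eight]
  ring

/-- the labels of a lattice vector -/
def lb (η : Q8) : Q8 := ∑ i, η i • cartanOf chevE8 8 i

theorem ex_lb (η a : Q8) : ex (lb η) a = B0 η a := by
  rw [bf_apply, Finset.sum_comm, ex]
  refine Finset.sum_congr rfl fun j _ => ?_
  rw [lb, Finset.sum_apply, Finset.mul_sum]
  exact Finset.sum_congr rfl fun i _ => by rw [Pi.smul_apply, smul_eq_mul, mul_comm]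

theorem bw_zero (k : Q8) : bw 0 k = 0 := by simp [bw]

theorem bw_lb (η k : Q8) : bw (lb η) k = ex k η := by
  have h : ∀ s : Finset (Fin 8), bw (∑ i ∈ s, η i • cartanOf chevE8 8 i) k = ∑ i ∈ s, η i * k i := by
    intro s
    induction s using Finset.induction_on with
    | empty => rw [Finset.sum_empty, Finset.sum_empty, bw_zero]
    | insert i s hi ih => rw [Finset.sum_insert hi, Finset.sum_insert hi, Two.bw_add, ih, Two.bw_smul, Two.bw_cartan]
  exact h _

theorem ex_lin (m n : ℤ) (a b x : Q8) : ex (m • a - n • b) x = m * ex a x - n * ex b x := by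
  simp only [ex, Pi.sub_apply, Pi.smul_apply, smul_eq_mul, Finset.mul_sum, ← Finset.sum_sub_distrib]
  exact Finset.sum_congr rfl fun _ _ => by ring

/-! ### rationality -/

theorem exists_dual_one (k : Type*) [Field k] (R : Type*) [Ring R] [Nontrivial R] [Algebra k R] :
    ∃ φ : Module.Dual k R, φ 1 = 1 := by
  obtain ⟨φ, h⟩ := not_forall.1 (mt (Module.forall_dual_apply_eq_zero_iff k (1 : R)).1 one_ne_zero)
  exact ⟨(φ 1)⁻¹ • φ, by rw [LinearMap.smul_apply, smul_eq_mul, inv_mul_cancel₀ h]⟩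

/-- a rational component -/
noncomputable def pj (φ : Module.Dual ℚ ℝ) (l : Q8 →+ ℝ) : Q8 →+ ℝ :=
  (Rat.castHom ℝ).toAddMonoidHom.comp (φ.toAddMonoidHom.comp l)

theorem pj_apply (φ : Module.Dual ℚ ℝ) (l : Q8 →+ ℝ) (a : Q8) : pj φ l a = ((φ (l a) : ℚ) : ℝ) := rfl

theorem dual_B2 (φ p : Module.Dual ℚ ℝ) (a m : Q8 →+ ℝ) :
    φ (B2 (pj p m) a) = ∑ i : chevE8.Idx, p (m (wt i)) * φ (a (wt i)) := by
  rw [B2, map_sum]
  exact Finset.sum_congr rfl fun i _ => by rw [pj_apply, ← Rat.smul_def, map_smul, smul_eq_mul]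

theorem rat_of_perp {l : Q8 →+ ℝ} {S : Set chevE8.Idx} (hS : ∀ j ∈ S, ∃ q : ℚ, l (wt j) = q)
    (hp : ∀ a : Q8 →+ ℝ, (∀ j ∈ S, a (wt j) = 0) → B2 a l = 0) (x : Q8) : ∃ q : ℚ, l x = q := by
  obtain ⟨p, h1⟩ := exists_dual_one ℚ ℝ
  have h2 : ∀ j ∈ S, (l - pj p l) (wt j) = 0 := fun j hj => by
    obtain ⟨q, hq⟩ := hS j hj
    rw [AddMonoidHom.sub_apply, pj_apply, hq, ← mul_one (q : ℝ), ← Rat.smul_def, map_smul, h1, smul_eq_mul, mul_one,
      Rat.smul_def, mul_one, sub_self]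
  have h3 : B2 (pj p l) (l - pj p l) = 0 := (Module.forall_dual_apply_eq_zero_iff ℚ _).1 fun φ => by
    have h4 := congrArg p (hp (pj φ (l - pj p l)) fun j hj => by rw [pj_apply, h2 j hj, map_zero, Rat.cast_zero])
    rw [dual_B2, map_zero] at h4
    rw [dual_B2, ← h4]
    exact Finset.sum_congr rfl fun _ _ => mul_comm _ _
  have h4 : l - pj p l = 0 := B2_eq_zero (by rw [B2_sub, B2_comm l, hp _ h2, h3, sub_zero])
  exact ⟨_, by rw [← pj_apply, ← sub_eq_zero.1 h4]⟩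

theorem exists_N {l : Q8 →+ ℝ} (h : ∀ x, ∃ q : ℚ, l x = q) :
    ∃ N : ℕ, 0 < N ∧ ∃ y : Q8, ∀ x, (N : ℝ) * l x = 2 * ex y x := by
  choose q hq using fun i => h (sr i)
  have h1 : ∀ i, ∃ m : ℤ, ((∏ j, (q j).den : ℕ) : ℚ) * q i = m := fun i => by
    obtain ⟨k, hk⟩ := Finset.dvd_prod_of_mem (fun j => (q j).den) (Finset.mem_univ i)
    exact ⟨k * (q i).num, by rw [hk]; push_cast; rw [mul_comm ((q i).den : ℚ), mul_assoc, Rat.den_mul_eq_num]⟩
  choose y hy using h1
  refine ⟨2 * ∏ j, (q j).den, mul_pos two_pos (Finset.prod_pos fun j _ => (q j).den_pos), y, fun x => ?_⟩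
  have h2 : ((2 * ∏ j, (q j).den : ℕ) : ℝ) • l = (2 : ℝ) • cl y := Frm.hom_ext fun i => by
    rw [AddMonoidHom.smul_apply, AddMonoidHom.smul_apply, cl_apply, Two.ex_sr, hq, smul_eq_mul, smul_eq_mul, Nat.cast_mul,
      mul_assoc, Nat.cast_ofNat]
    congr 1
    exact_mod_cast congrArg (Rat.cast : ℚ → ℝ) (hy i)
  exact DFunLike.congr_fun h2 x

/-! ### block matrices -/

variable {K : Type u} [Field K]

/-- `x` maps the pieces of `l` to the pieces of `l'` -/
def Lv (l l' : Q8 →+ ℝ) (x : G8 K) : Prop := ∀ i j, mx x i j ≠ 0 → l' (wt i) = l (wt j)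

theorem Lv.LS {l l' : Q8 →+ ℝ} {x : G8 K} (h : Lv l l' x) {c : ℝ} {v : L8 K} (hv : v ∈ LS K (Eq' l c)) :
    act x v ∈ LS K (Eq' l' c) :=
  mulVec_LS (fun i j hij hj => (h i j hij).trans hj) hv

theorem Lv.diag {l l' : Q8 →+ ℝ} {x : G8 K} (h : Lv l l' x) {δ δ' : chevE8.Idx → K}
    (hδ : ∀ i j, l' (wt i) = l (wt j) → δ' i = δ j) : mx x * Matrix.diagonal δ = Matrix.diagonal δ' * mx x := by
  ext i j
  rw [Matrix.mul_diagonal, Matrix.diagonal_mul]
  by_cases h0 : mx x i j = 0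
  · rw [h0, zero_mul, mul_zero]
  · rw [hδ i j (h i j h0), mul_comm]

theorem blk {l : Q8 →+ ℝ} {u : G8 K} (h : Up l l (mx u)) (h' : Up l l (mx u⁻¹)) {δ : chevE8.Idx → K}
    (hδ : ∀ i j, l (wt i) = l (wt j) → δ i = δ j) {i j : chevE8.Idx} (hij : l (wt i) = l (wt j)) :
    (mx u * Matrix.diagonal δ * mx u⁻¹) i j = Matrix.diagonal δ i j := by
  have h1 : (mx u * Matrix.diagonal δ * mx u⁻¹) i j = δ i * (mx u * mx u⁻¹) i j := by
    rw [Matrix.mul_apply, Matrix.mul_apply, Finset.mul_sum]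
    refine Finset.sum_congr rfl fun k _ => ?_
    rw [Matrix.mul_diagonal]
    by_cases h2 : mx u i k = 0
    · rw [h2, zero_mul, zero_mul, mul_zero]
    by_cases h3 : mx u⁻¹ k j = 0
    · rw [h3, mul_zero, mul_zero, mul_zero]
    rw [hδ k i (le_antisymm (h i k h2) (hij.le.trans (h' k j h3)))]
    ring
  rw [h1, mx_mul_inv, Matrix.one_apply, Matrix.diagonal_apply]
  split_ifs
  · rw [mul_one]
  · rw [mul_zero]

theorem adm_ent {l : Q8 →+ ℝ} {c : ℝ} {x : L8 K} (hx : x ∈ LS K (Eq' l c)) {i j : chevE8.Idx} (h : adm x i j ≠ 0) :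
    l (wt i) = c + l (wt j) := by
  obtain ⟨k, h1, h2⟩ := adm_wt h
  rw [h2, map_add, mem_Eq.1 (hx k h1)]

theorem inT_Eq {h : L8 K} (hh : InT h) (l : Q8 →+ ℝ) : h ∈ LS K (Eq' l 0) :=
  LS_mono (fun a ha => by rw [mem_Eq, Set.mem_singleton_iff.1 ha, map_zero]) (inT_iff.1 hh)

theorem Eq_neg {l : Q8 →+ ℝ} {c : ℝ} {v : L8 K} : v ∈ LS K (Eq' (-l) c) ↔ v ∈ LS K (Eq' l (-c)) :=
  forall₂_congr fun _ _ => by rw [mem_Eq, mem_Eq, AddMonoidHom.neg_apply, neg_eq_iff_eq_neg]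

/-! ### optimal gradings -/

variable {e h f : L8 K} {g : G8 K} {l l' : Q8 →+ ℝ}

theorem dp_iff : Dp ![e, h, f] ![2, 0, -2] g l ↔
    act g e ∈ LS K (Ge l 2) ∧ act g h ∈ LS K (Ge l 0) ∧ act g f ∈ LS K (Ge l (-2)) := by
  unfold Dp
  rw [Fin.forall_fin_succ, Fin.forall_fin_two]
  rfl

theorem dm_iff : Dp ![e, h, f] (-![2, 0, -2]) g l ↔
    act g e ∈ LS K (Ge l (-2)) ∧ act g h ∈ LS K (Ge l (-0)) ∧ act g f ∈ LS K (Ge l (-(-2))) := by
  unfold Dp
  rw [Fin.forall_fin_succ, Fin.forall_fin_two]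
  rfl

/-- a lower bound for the norms -/
def Lb (e h f : L8 K) (r : ℝ) : Prop := (∀ g lam, Dp ![e, h, f] ![2, 0, -2] g lam → r ≤ nrm lam) ∧
  ∀ g lam, Dp ![e, h, f] (-![2, 0, -2]) g lam → r ≤ nrm lam

theorem Lb.act {r : ℝ} (H : Lb e h f r) (g : G8 K) : Lb (act g e) (act g h) (act g f) r :=
  ⟨fun x lam hx => H.1 (x * g) lam (by rw [dp_iff] at hx ⊢; simpa only [act_mul] using hx),
    fun x lam hx => H.2 (x * g) lam (by rw [dm_iff] at hx ⊢; simpa only [act_mul] using hx)⟩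

/-- an optimal grading -/
structure Gr (l : Q8 →+ ℝ) (e h f : L8 K) : Prop where
  lb : Lb e h f (nrm l)
  he : e ∈ LS K (Eq' l 2)
  hh : h ∈ LS K (Eq' l 0)
  hf : f ∈ LS K (Eq' l (-2))

theorem dp_of (he : act g e ∈ LS K (Eq' l 2)) (hh : act g h ∈ LS K (Eq' l 0)) (hf : act g f ∈ LS K (Eq' l (-2))) :
    Dp ![e, h, f] ![2, 0, -2] g l ∧ Dp ![e, h, f] (-![2, 0, -2]) g (-l) :=
  ⟨dp_iff.2 ⟨Eq_le_Ge he, Eq_le_Ge hh, Eq_le_Ge hf⟩, dm_iff.2 ⟨Eq_le_Ge_neg he, Eq_le_Ge_neg hh, Eq_le_Ge_neg hf⟩⟩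

theorem Gr.dp (H : Gr l e h f) : Dp ![e, h, f] ![2, 0, -2] 1 l ∧ Dp ![e, h, f] (-![2, 0, -2]) 1 (-l) :=
  dp_of (by rw [act_one]; exact H.he) (by rw [act_one]; exact H.hh) (by rw [act_one]; exact H.hf)

theorem Gr.same (hK : KSD.{u}) (hC : CANF.{u}) (H : Gr l e h f) (hx : Dp ![e, h, f] ![2, 0, -2] g l')
    (hn : nrm l' = nrm l) : SameF 1 l g l' :=
  hC K _ (hK K _ _ _) _ _ _ _ ⟨H.dp.1, H.lb.1⟩ ⟨hx, hn ▸ H.lb.1⟩

theorem Gr.up (hK : KSD.{u}) (hC : CANF.{u}) (H : Gr l e h f) (hx : Dp ![e, h, f] ![2, 0, -2] g l')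
    (hn : nrm l' = nrm l) : Up l l' (mx g) ∧ Up l' l (mx g⁻¹) := by
  have h1 := H.same hK hC hx hn
  refine ⟨up_of_LS fun c v hv => (h1 c v).1 (by rwa [act_one]), up_of_LS fun c v hv => ?_⟩
  have h2 := (h1 c (act g⁻¹ v)).2 (by rwa [act_inv'])
  rwa [act_one] at h2

theorem Gr.lv (hK : KSD.{u}) (hN : NRM) (hC : CANF.{u}) (H : Gr l e h f) (he : act g e ∈ LS K (Eq' l' 2))
    (hh : act g h ∈ LS K (Eq' l' 0)) (hf : act g f ∈ LS K (Eq' l' (-2))) (hn : nrm l' = nrm l) : Lv l l' g := by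
  have h1 := dp_of he hh hf
  have h2 := (H.up hK hC h1.1 hn).1
  have h3 := hC K _ (hK K _ _ _) _ _ _ _ ⟨H.dp.2, by rw [nrm_neg hN]; exact H.lb.2⟩
    ⟨h1.2, by rw [nrm_neg hN, hn]; exact H.lb.2⟩
  have h4 : Up (-l) (-l') (mx g) := up_of_LS fun c v hv => (h3 c v).1 (by rwa [act_one])
  exact fun i j hij => le_antisymm (neg_le_neg_iff.1 (h4 i j hij)) (h2 i j hij)

theorem Gr.perp (hN : NRM) (H : Gr l e h f) (hT : InT h) (a : Q8 →+ ℝ) (ha : ∀ j ∈ {j | e j ≠ 0 ∨ f j ≠ 0}, a (wt j) = 0) :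
    B2 a l = 0 := by
  have h1 : ∀ t : ℝ, 0 ≤ B2 a a * (t * t) + 2 * B2 a l * t + 0 := fun t => by
    have h2 := (nrm_le_iff hN).1 (H.lb.1 1 (l + t • a) (dp_iff.2 ⟨fun j hj => ?_, Eq_le_Ge ?_, fun j hj => ?_⟩))
    · rw [B2_add, B2_comm l (l + _), B2_smul, B2_comm a, B2_add, B2_add, B2_smul, B2_smul, B2_comm l a] at h2
      linarith
    · rw [act_one] at hj
      rw [mem_Ge, AddMonoidHom.add_apply, AddMonoidHom.smul_apply, ha j (Or.inl hj), smul_zero, add_zero, H.he j hj]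
    · rw [act_one]
      exact inT_Eq hT _
    · rw [act_one] at hj
      rw [mem_Ge, AddMonoidHom.add_apply, AddMonoidHom.smul_apply, ha j (Or.inr hj), smul_zero, add_zero, H.hf j hj]
  have h2 := discrim_le_zero h1
  rw [discrim] at h2
  nlinarith [sq_nonneg (B2 a l)]

end Sc

end Cfsg.Agent.E8A.C63

private theorem dce_8646499625cf : _root_.True := by
  try have : _root_.True := by simp only [_root_.Cfsg.Agent.E8A.B8.eq_1]
  try have : _root_.True := by simp only [_root_.Cfsg.Agent.E8A.C63.B2.eq_1]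
  try have : _root_.True := by simp only [_root_.Cfsg.Agent.E8A.C63.Sc.lb.eq_1]
  exact _root_.True.intro
end

-- part: E8A/C63/Sc
section
prune_inst 0x7f00000000000000000000000000000000000000000000000000000000000000000000000000000000000000000000000000000000000000000000000000000000000000000000000000000000000000003fffffffffffffffffffffffffffbeffbdffffffff
set_option linter.all false
open scoped Cfsg.Agent.FastGrp

/-!
# `A₆` in characteristic 3: the box SC (helper13)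
-/

set_option autoImplicit false
set_option maxRecDepth 100000

namespace Cfsg.Agent.E8A.C63

open Cfsg Cfsg.Lie Module
open Cfsg.Agent.H288.E8L (Q8 wt wt_inl wt_inr)
open Cfsg.Agent.Tits.Roots (sr)
open Cfsg.Agent.E8A.Frm (B0)
open Cfsg.Agent.E8A.Inf (kf kf_apply)
open Cfsg.Agent.E8A.Kem (Ge nrm mem_Ge)
open Cfsg.Agent.E8A.Par (KS Opt Up up_of_LS)
open Cfsg.Agent.E8A.Reg5.Cls (ex dz)
open Cfsg.Agent.E8A.Reg5.Aut (si)
open Cfsg.Agent.E8A.Two (bw nm)

universe u

namespace Sc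

/-- no sign character -/
theorem sgn (hG : GEN) {X : Type*} (A : Alt 6 → X → X) (h1 : ∀ x, A 1 x = x) (hm : ∀ a b x, A (a * b) x = A a (A b x))
    (σ : X → X) (hσ : ∀ x, σ (σ x) = x) (hc : ∀ a x, A a (σ x) = σ (A a x)) {z : X} (hu : A uu z = z) (hy : A yy z = z)
    (hd : A dd z = σ z) (a : Alt 6) : A a z = z := by
  have hi : ∀ a x, A a⁻¹ (A a x) = x := fun a x => by rw [← hm, inv_mul_cancel, h1]
  have h2 : ∀ a, A a z = z ∨ A a z = σ z := fun a => by
    have ha : a ∈ Subgroup.closure {uu, yy, dd} := hG ▸ Subgroup.mem_top a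
    induction ha using Subgroup.closure_induction with
    | mem x hx =>
      rcases hx with rfl | rfl | rfl
      exacts [Or.inl hu, Or.inl hy, Or.inr hd]
    | one => exact Or.inl (h1 z)
    | mul x y _ _ hx hy =>
      rw [hm]
      rcases hy with hy | hy
      · rwa [hy]
      · rw [hy, hc]
        exact hx.symm.imp (fun h => by rw [h, hσ]) fun h => by rw [h]
    | inv x _ hx =>
      refine hx.imp (fun h => ?_) fun h => ?_
      · conv_lhs => rw [← h, hi]
      · conv_lhs => rw [← hσ z, hc, ← h, hi]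
  let N : Subgroup (Alt 6) :=
    { carrier := {a | A a z = z}
      one_mem' := h1 z
      mul_mem' := fun {a b} ha hb => by
        show A (a * b) z = z
        rw [hm, show A b z = z from hb, show A a z = z from ha]
      inv_mem' := fun {a} ha => by
        show A a⁻¹ z = z
        conv_lhs => rw [← show A a z = z from ha, hi] }
  have hN : N.Normal := ⟨fun n hn b => by
    have h3 : A n (A b⁻¹ z) = A b⁻¹ z := by
      rcases h2 b⁻¹ with h | h
      · rw [h, show A n z = z from hn]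
      · rw [h, hc, show A n z = z from hn]
    show A (b * n * b⁻¹) z = z
    rw [hm, hm, h3, ← hm, mul_inv_cancel, h1]⟩
  have : IsSimpleGroup (Alt 6) := alternatingGroup.isSimpleGroup (by simp)
  rcases hN.eq_bot_or_eq_top with h | h
  · have h3 : uu ∈ N := hu
    rw [h, Subgroup.mem_bot] at h3
    exact absurd h3 (by decide)
  · exact (h ▸ Subgroup.mem_top a : a ∈ N)

theorem exists_min {l : Q8 →+ ℝ} (h : ∀ x, ∃ q : ℚ, l x = q) : ∃ N : ℕ, 0 < N ∧ ∃ y : Q8,
    (∀ x, (N : ℝ) * l x = 2 * ex y x) ∧ ∀ p : ℕ, p.Prime → p ∣ N → ∃ i, ¬ (p : ℤ) ∣ y i := by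
  classical
  have h1 := exists_N h
  obtain ⟨h0, y, hy⟩ := Nat.find_spec h1
  refine ⟨_, h0, y, hy, fun p hp ⟨M, hM⟩ => ?_⟩
  by_contra hc
  push Not at hc
  choose y' hy' using hc
  have hM0 : 0 < M := Nat.pos_of_ne_zero fun e => by rw [e, mul_zero] at hM; omega
  refine Nat.find_min h1 (m := M) (by rw [hM]; exact lt_mul_left hM0 hp.one_lt) ⟨hM0, y', fun x => ?_⟩
  have h2 : ex y x = p * ex y' x := by
    simp only [ex, hy', Finset.mul_sum]
    exact Finset.sum_congr rfl fun _ _ => by ring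
  have h3 := hy x
  rw [hM, h2] at h3
  push_cast at h3
  exact mul_left_cancel₀ (Nat.cast_ne_zero.2 hp.ne_zero : (p : ℝ) ≠ 0) (by linarith)

variable {K : Type u} [Field K] {ψ : Alt 6 →* G8 K} {ι : K} {e h f : L8 K} {l : Q8 →+ ℝ}

/-- the first alternative -/
def ZE (ψ : Alt 6 →* G8 K) (e h f : L8 K) : Prop := ∃ z : G8 K, z ≠ 1 ∧ z ^ 2 = 1 ∧ (∀ a, Commute z (ψ a)) ∧
  ∀ c : G8 K, act c e = e → act c h = h → act c f = f → Commute z c

theorem ZE.of_cj {g : G8 K} (H : ZE (cj g ψ) (act g e) (act g h) (act g f)) : ZE ψ e h f := by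
  obtain ⟨z, h1, h2, h3, h4⟩ := H
  have h5 : ∀ x, Commute z (g * x * g⁻¹) → Commute (g⁻¹ * z * g) x := fun x hx => by
    show g⁻¹ * z * g * x = x * (g⁻¹ * z * g)
    calc g⁻¹ * z * g * x = g⁻¹ * (z * (g * x * g⁻¹)) * g := by group
      _ = x * (g⁻¹ * z * g) := by rw [hx.eq]; group
  refine ⟨g⁻¹ * z * g, fun h => h1 ?_, ?_, fun a => h5 _ (h3 a), fun c he hh hf => h5 _ (h4 _ ?_ ?_ ?_)⟩
  · rw [show z = g * (g⁻¹ * z * g) * g⁻¹ by group, h, mul_one, mul_inv_cancel]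
  · rw [show (g⁻¹ * z * g) ^ 2 = g⁻¹ * z ^ 2 * g by rw [sq, sq]; group, h2, mul_one, inv_mul_cancel]
  · rw [act_mul, act_mul, act_inv, he]
  · rw [act_mul, act_mul, act_inv, hh]
  · rw [act_mul, act_mul, act_inv, hf]

theorem Ge_mono {c c' : ℝ} (hc : c ≤ c') {v : L8 K} (hv : v ∈ LS K (Eq' l c')) : v ∈ LS K (Ge l c) :=
  LS_mono (fun _ ha => mem_Ge.2 (hc.trans (mem_Eq.1 ha).ge)) hv

section Facts

variable (hK : KSD.{u}) (hN : NRM) (hC : CANF.{u}) (T : T3 (rp ψ) ι e h f) (H : Gr l e h f)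
include hK hC T H

theorem up_u : Up l l (mx (ψ uu)) ∧ Up l l (mx (ψ uu)⁻¹) := by
  refine H.up hK hC (dp_iff.2 ⟨?_, ?_, ?_⟩) rfl
  · rw [← rp_apply, T.ue]
    exact Eq_le_Ge H.he
  · rw [← rp_apply, T.uh]
    exact add_mem (Eq_le_Ge H.hh) (Ge_mono (by norm_num) H.he)
  · rw [← rp_apply, T.uf]
    exact sub_mem (add_mem (Eq_le_Ge H.hf) (Ge_mono (by norm_num) H.hh)) (Ge_mono (by norm_num) H.he)

include hN

theorem lv_y : Lv l l (ψ yy) := by
  refine H.lv hK hN hC ?_ ?_ ?_ rfl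
  · rw [← rp_apply, T.ye]
    exact Submodule.smul_mem _ _ H.he
  · rw [← rp_apply, T.yh]
    exact H.hh
  · rw [← rp_apply, T.yf]
    exact Submodule.smul_mem _ _ H.hf

theorem lv_d : Lv l (-l) (ψ dd) := by
  refine H.lv hK hN hC ?_ ?_ ?_ (nrm_neg hN l)
  · rw [← rp_apply, T.de, Eq_neg]
    exact neg_mem H.hf
  · rw [← rp_apply, T.dh, Eq_neg, neg_zero]
    exact neg_mem H.hh
  · rw [← rp_apply, T.df, Eq_neg, neg_neg]
    exact neg_mem H.he

omit T in
theorem lv_c {c : G8 K} (he : act c e = e) (hh : act c h = h) (hf : act c f = f) : Lv l l c :=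
  H.lv hK hN hC (by rw [he]; exact H.he) (by rw [hh]; exact H.hh) (by rw [hf]; exact H.hf) rfl

/-- a denominator prime to three gives an involution -/
theorem zcase [IsAlgClosed K] [CharP K 3] (hG : GEN) (hI : Inv ψ (Submodule.span K {e, h, f})) {N : ℕ} {y : Q8}
    (hy : ∀ x, (N : ℝ) * l x = 2 * ex y x) {p : ℕ} (hp : p.Prime) (h3 : p ≠ 3) (hd : p ∣ N) {i : Fin 8}
    (hi : ¬ (p : ℤ) ∣ y i) : ZE ψ e h f := by
  have : NeZero (p : K) := ⟨fun h0 => h3 ((Nat.prime_dvd_prime_iff_eq Nat.prime_three hp).1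
    ((CharP.cast_eq_zero_iff K 3 p).1 h0)).symm⟩
  obtain ⟨ζ, hζ⟩ := HasEnoughRootsOfUnity.exists_primitiveRoot K p
  have hζ0 : ζ ≠ 0 := hζ.ne_zero hp.ne_zero
  obtain ⟨z, -, hz⟩ := TwoH.exists_tz hζ0 y
  have e1 : ∀ a b, l a = l b → ex y a = ex y b := fun a b hab => by
    have h1 := hy a
    rw [hab, hy b] at h1
    exact_mod_cast (mul_left_cancel₀ two_ne_zero h1).symm
  have e2 : ∀ a b, -l a = l b → -ex y a = ex y b := fun a b hab => by
    have h1 := hy a
    have h2 := hy b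
    rw [← hab] at h2
    exact_mod_cast (by linarith : -(ex y a : ℝ) = ex y b)
  have fx : ∀ (c : ℤ) (v : L8 K), v ∈ LS K (Eq' l (2 * c)) → act z v = v := fun c v hv => funext fun j => by
    rw [Two.act_dz hz]
    by_cases h0 : v j = 0
    · rw [h0, mul_zero]
    have h1 := hy (wt j)
    rw [mem_Eq.1 (hv j h0)] at h1
    have h2 : ex y (wt j) = N * c := by exact_mod_cast (by linarith : (ex y (wt j) : ℝ) = N * c)
    rw [(hζ.zpow_eq_one_iff_dvd _).2 (h2 ▸ (Int.natCast_dvd_natCast.2 hd).mul_right c), one_mul]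
  have fW : ∀ v ∈ Submodule.span K {e, h, f}, act z v = v := fun v hv =>
    LinearMap.eqOn_span (f := LK K z) (g := LinearMap.id) (by
      rintro _ (rfl | rfl | rfl)
      · exact fx 1 _ (by simpa using H.he)
      · exact fx 0 _ (by simpa using H.hh)
      · exact fx (-1) _ (by simpa using H.hf)) hv
  have cm : ∀ x, Lv l l x → Commute z x := fun x hx => mx_injective (by
    rw [mx_mul, mx_mul, hz, dz]
    exact (hx.diag fun i j hij => by rw [e1 _ _ hij]).symm)
  have hu : ψ uu * z * (ψ uu)⁻¹ = z := by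
    have h1 : ∀ v ∈ Submodule.span K {e, h, f}, act (ψ uu * z * (ψ uu)⁻¹) v = v := fun v hv => by
      rw [act_mul, act_mul, ← map_inv, fW _ (hI _ _ hv), map_inv, act_inv']
    have h2 := lv_c hK hN hC H (h1 e (Submodule.subset_span (by simp))) (h1 h (Submodule.subset_span (by simp)))
      (h1 f (Submodule.subset_span (by simp)))
    refine mx_injective (Matrix.ext fun i j => ?_)
    by_cases hij : l (wt i) = l (wt j)
    · rw [mx_mul, mx_mul, hz, dz]
      exact blk (up_u hK hC T H).1 (up_u hK hC T H).2 (fun i j hij => by rw [e1 _ _ hij]) hij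
    · rw [not_not.1 (mt (h2 i j) hij), hz, dz, Matrix.diagonal_apply_ne _ fun e => hij (by rw [e])]
  have hdd : ψ dd * z * (ψ dd)⁻¹ = z⁻¹ := by
    rw [mul_inv_eq_iff_eq_mul, eq_inv_mul_iff_mul_eq]
    refine mx_injective ?_
    rw [mx_mul, mx_mul, hz, dz, (lv_d hK hN hC T H).diag (δ' := fun i => ζ ^ (-ex y (wt i))) fun i j hij => by
      rw [e2 _ _ hij], ← Matrix.mul_assoc, Matrix.diagonal_mul_diagonal]
    simp only [← zpow_add₀ hζ0, add_neg_cancel, zpow_zero, Matrix.diagonal_one, Matrix.one_mul]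
  have ha := sgn hG (fun a x => ψ a * x * (ψ a)⁻¹) (fun x => by simp) (fun a b x => by rw [map_mul]; group)
    (fun x => x⁻¹) inv_inv (fun a x => by group) hu
    (by rw [← (cm _ (lv_y hK hN hC T H)).eq, mul_inv_cancel_right]) hdd
  refine ⟨z, fun h1 => hi ?_, ?_, fun a => (mul_inv_eq_iff_eq_mul.1 (ha a)).symm,
    fun c he hh hf => cm c (lv_c hK hN hC H he hh hf)⟩
  · have h2 := Two.act_dz hz (ee K (Sum.inr (si i))) (Sum.inr (si i))
    rw [h1, act_one, ee_self, mul_one, wt_si, Two.ex_sr] at h2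
    exact (hζ.zpow_eq_one_iff_dvd _).1 h2.symm
  · rw [sq, mul_eq_one_iff_eq_inv, ← hdd, ha dd]

end Facts

theorem act_T {l l' : Q8 →+ ℝ} {x : G8 K} (hx : Lv l l' x) {h₀ h₁ : L8 K} (h0 : InT h₀) (h1 : InT h₁)
    (hr : ∀ a b, l' a = l b → rl h₁ a = rl h₀ b) : act x h₀ = h₁ := adm_injective (by
  rw [adm_act, adm_T h0, adm_T h1, hx.diag fun i j hij => hr _ _ hij, Matrix.mul_assoc, mx_mul_inv, Matrix.mul_one])

theorem two_ne [CharP K 3] : (2 : K) ≠ 0 := fun h0 =>
  absurd ((CharP.cast_eq_zero_iff K 3 2).1 (by exact_mod_cast h0)) (by norm_num)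

/-- a denominator divisible by three -/
theorem three [CharP K 3] (hN : NRM) (h9 : K9) (S : Sl2 e h f) (H : Gr l e h f) (hT : InT h) {N : ℕ} (hN0 : 0 < N) {y : Q8}
    (hy : ∀ x, (N : ℝ) * l x = 2 * ex y x) (hd : 3 ∣ N) (i : Fin 8) : (3 : ℤ) ∣ y i := by
  have : Fact (Nat.Prime 3) := ⟨Nat.prime_three⟩
  let _ := ZMod.algebra K 3
  obtain ⟨π, hπ⟩ := exists_dual_one (ZMod 3) K
  have hπ' : ∀ (n : ℤ) (x : K), π (n * x) = n * π x := fun n x => by
    rw [← zsmul_eq_mul, map_zsmul, zsmul_eq_mul]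
  set κ : chevE8.Idx → K := fun j => e j * Matrix.mulVec (H597.E8Form.J K) f j with hκ
  set η : Q8 := ∑ j, (((π (κ j)).val : ℕ) : ℤ) • wt j with hη
  have h1 : ∀ a, ((B0 η a : ℤ) : ZMod 3) = π (rl h a) := fun a => by
    rw [← TwoH.kf_hq, ← S.ef, ← Odd.kf_br two_ne, kf_apply, dotProduct, map_sum π, hη, map_sum, LinearMap.sum_apply,
      Int.cast_sum]
    refine Finset.sum_congr rfl fun j _ => ?_
    rw [br_T (TwoH.inT_hq a), TwoH.rl_hq, mul_assoc, hπ', map_smul, LinearMap.smul_apply, smul_eq_mul, Int.cast_mul,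
      Int.cast_natCast, ZMod.natCast_zmod_val, Odd.B0_comm, mul_comm]
  have h2 : ∀ (c : ℤ) (v : L8 K) (j : chevE8.Idx), v j ≠ 0 → v ∈ LS K (Eq' l (2 * c)) → br h v = ((2 * c : ℤ) : K) • v →
      (9 : ℤ) ∣ ex ((2 : ℤ) • y - (N : ℤ) • lb η) (wt j) := fun c v j hj hv hb => by
    have h3 := hy (wt j)
    rw [mem_Eq.1 (hv j hj)] at h3
    have h4 : ex y (wt j) = N * c := by exact_mod_cast (by linarith : (ex y (wt j) : ℝ) = N * c)
    have h5 := congrFun hb j
    rw [br_T hT, Pi.smul_apply, smul_eq_mul] at h5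
    have h6 := h1 (wt j)
    rw [mul_right_cancel₀ hj h5, ← mul_one ((2 * c : ℤ) : K), hπ', hπ, mul_one, ZMod.intCast_eq_intCast_iff_dvd_sub] at h6
    obtain ⟨m, hm⟩ := h6
    obtain ⟨M, rfl⟩ := hd
    refine ⟨M * m, ?_⟩
    rw [ex_lin, ex_lb, h4]
    push_cast at hm ⊢
    linear_combination (3 * (M : ℤ)) * hm
  have h3 := h9 ((2 : ℤ) • y - (N : ℤ) • lb η) {j | e j ≠ 0 ∨ f j ≠ 0} (fun j hj => ?_) (fun k hk => ?_) i
  · obtain ⟨M, rfl⟩ := hd
    rw [Pi.sub_apply, Pi.smul_apply, Pi.smul_apply, smul_eq_mul, smul_eq_mul] at h3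
    push_cast at h3
    rw [mul_assoc] at h3
    omega
  · rcases hj with hj | hj
    · exact h2 1 e j hj (by simpa using H.he) (by simpa using S.he)
    · exact h2 (-1) f j hj (by simpa using H.hf) (by simpa using S.hf)
  · have h4 : bw (lb η) k = 0 := by
      have h5 : cl k η = 0 := by
        rw [hη, map_sum]
        refine Finset.sum_eq_zero fun j _ => ?_
        rw [map_zsmul]
        by_cases h0 : e j = 0
        · simp [hκ, h0]
        · rw [cl_apply, hk j (Or.inl h0), Int.cast_zero, smul_zero]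
      rw [bw_lb]
      exact Int.cast_eq_zero.1 h5
    have h5 : bw y k = 0 := by
      have h6 : (N : ℝ) • l = (2 : ℝ) • cl y := AddMonoidHom.ext hy
      have h7 := H.perp hN hT (cl k) fun j hj => by rw [cl_apply, hk j hj, Int.cast_zero]
      have h8 := congrArg (fun a => B2 a (cl k)) h6
      simp only [B2_smul] at h8
      rw [B2_comm, h7, B2_cl hN] at h8
      exact_mod_cast (by linarith : (bw y k : ℝ) = 0)
    rw [Two.bw_comm, sub_eq_add_neg, ← neg_smul, Two.bw_add, Two.bw_smul, Two.bw_smul, h4, h5]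
    simp

theorem br_hm {y : Q8} {h₀ : L8 K} (H : IsH y h₀) (n : ℤ) {v : L8 K} (hv : v ∈ LS K (Eq' (cl y) n)) :
    br h₀ v = (n : K) • v := funext fun j => by
  rw [br_T H.1, H.2, Pi.smul_apply, smul_eq_mul]
  by_cases h0 : v j = 0
  · rw [h0, mul_zero, mul_zero]
  · rw [show ex y (wt j) = n from Int.cast_injective (α := ℝ) (hv j h0)]

/-- the good classes: `h` is the toral element of the cocharacter -/
theorem isH (hG : GEN) (hK : KSD.{u}) (hN : NRM) (hC : CANF.{u}) (hx : NoFx ψ) (T : T3 (rp ψ) ι e h f)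
    (hI : Inv ψ (Submodule.span K {e, h, f})) (S : Sl2 e h f) {y : Q8} (H : Gr (cl y) e h f)
    (hc : cen {e} ≤ LS K (Ge (cl y) 0)) : IsH y h := by
  obtain ⟨h₀, H0⟩ : ∃ h₀ : L8 K, IsH y h₀ := Two.exists_hm y
  have c1 : Submodule.span K {e, h, f} ≤ cen {h - h₀} := Submodule.span_le.2 (by
    rintro _ (rfl | rfl | rfl)
    · exact mem_cen_one.2 (by rw [br_sub_left, S.he, br_hm H0 2 (by simpa using H.he), Int.cast_ofNat, sub_self])
    · exact mem_cen_one.2 (by
        rw [br_sub_left, TwoH.br_self, br_hm H0 0 (by simpa using H.hh), Int.cast_zero, zero_smul, sub_self])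
    · exact mem_cen_one.2 (by
        rw [br_sub_left, S.hf, br_hm H0 (-2) (by simpa using H.hf), Int.cast_neg, Int.cast_ofNat, sub_self]))
  have c2 : ∀ a, act (ψ a) (h - h₀) ∈ LS K (Ge (cl y) 0) := fun a => hc (mem_cen_one.2 (TwoH.br_comm_zero (by
    rw [← act_inv' (ψ a) e, ← act_br, ← map_inv, mem_cen_one.1 (c1 (hI _ _ (Submodule.subset_span (by simp)))), act_zero])))
  have hd := lv_d hK hN hC T H
  have c3 : ∀ a, act (ψ a) (h - h₀) ∈ LS K (Eq' (cl y) 0) := fun a => mem_Eq_iff.2 ⟨c2 a, by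
    have h1 : Up (cl y) (-cl y) (mx (ψ dd)) := fun i j hij => (hd i j hij).ge
    have h2 := h1.LS 0 (c2 (dd⁻¹ * a))
    rwa [← act_mul, ← map_mul, mul_inv_cancel_left, ← neg_zero] at h2⟩
  have e1 : ∀ a b, cl y a = cl y b → rl h₀ a = rl h₀ b := fun a b hab => by
    rw [H0.2, H0.2, show ex y a = ex y b from Int.cast_injective (α := ℝ) hab]
  have hu : act (ψ uu) (h - h₀) = h - h₀ := by
    refine adm_injective (Matrix.ext fun i j => ?_)
    by_cases hij : cl y (wt i) = cl y (wt j)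
    · have h1 : adm e i j = 0 := by
        by_contra h1
        have := adm_ent H.he h1
        linarith
      rw [act_sub, ← rp_apply, T.uh, adm_sub, adm_sub, adm_add, adm_act, adm_T H0.1, Matrix.sub_apply, Matrix.sub_apply,
        Matrix.add_apply, h1, add_zero, blk (up_u hK hC T H).1 (up_u hK hC T H).2 (fun i j => e1 _ _) hij]
    · have h1 := c3 1
      rw [map_one, act_one] at h1
      rw [not_not.1 (mt (adm_ent (c3 uu)) (by rwa [zero_add])), not_not.1 (mt (adm_ent h1) (by rwa [zero_add]))]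
  have hy : act (ψ yy) (h - h₀) = h - h₀ := by
    rw [act_sub, ← rp_apply, T.yh, act_T (lv_y hK hN hC T H) H0.1 H0.1 e1]
  have hdd : act (ψ dd) (h - h₀) = -(h - h₀) := by
    rw [act_sub, ← rp_apply, T.dh, act_T hd H0.1 (h₁ := -h₀) (fun r => by rw [Pi.neg_apply, H0.1 r, neg_zero])
      fun a b hab => by rw [rl_neg, ← map_neg, e1 (-a) b (by rw [map_neg]; exact hab)]]
    abel
  have h1 := hx _ (sgn hG (fun a v => act (ψ a) v) (fun v => by rw [map_one, act_one])
    (fun a b v => by rw [map_mul, act_mul]) (fun v => -v) neg_neg (fun a v => act_neg _ _) hu hy hdd)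
  rwa [sub_eq_zero.1 h1]

theorem nums (c : Fin 11) {n : ℤ} (h0 : ∃ m, n = 2 * m) (h1 : (nrc c : ℤ) ≤ 4 * n)
    (h2 : (n = 2 → 134 ≤ cdc c) ∧ (n = 4 → 92 ≤ cdc c) ∧ (n = 6 → 86 ≤ cdc c)) :
    (4 * n ≤ nrc c → c = 3 ∨ c = 8) ∧ (9 ≤ c.val → 4 * n ≤ nrc c + 6 → c = 9 ∧ 4 * n = nrc c + 6) := by
  obtain ⟨m, rfl⟩ := h0
  fin_cases c <;> simp [nrc, cdc] at h1 h2 ⊢ <;> omega

theorem inv_cj (hB : T3B.{u}) [CharP K 3] (T : T3 (rp ψ) ι e h f) (h0 : e ≠ 0) : Inv ψ (Submodule.span K {e, h, f}) :=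
  (hB K _ _ _ _ _ _ T h0).2.1

end Sc

open Sc in
theorem sc_of (hG : GEN) (hB : T3B.{u}) (hK : KSD.{u}) (hN : NRM) (hC : CANF.{u}) (hTr : TRANS.{u}) (hGr : GRADE.{u})
    (hV : TORV.{u}) (hS : STR.{u}) (hN3 : NIL3.{u}) (hW : WIT.{u}) (hZ : Z3.{u}) (h9 : K9) (hE3 : EA2.{u}) (hE8 : E2A2.{u})
    (hE9 : EEX.{u}) : SC.{u} := by
  intro K _ _ _ ψ X ι e h f T h0 R
  obtain ⟨c, g₀, hg₀, hopt⟩ := hN3 K e h0 R.ce
  obtain ⟨-, s1, s2, s3, s4, -⟩ := hS K c
  have hcd : cd e = cdc c := by rw [← s1, ← hg₀, cd_act]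
  -- the witness
  obtain ⟨gw, yw, w1, w2, w3, w4⟩ : ∃ (gw : G8 K) (yw : Q8), act gw e = ec K c ∧ Dp ![e, h, f] ![2, 0, -2] gw (cl yw) ∧
      ec K c ∈ LS K (Eq' (cl yw) 2) ∧ (yw = lab c ∨ (yw = labx c ∧ 9 ≤ c.val ∧ nm yw = nrc c + 6 ∧
      (c.val = 9 → ∃ h₀ z, IsH (lab c) h₀ ∧ z ∈ KK K c ∧ z ≠ 0 ∧ pr (cl yw) 0 (act gw h) = h₀ + z))) := by
    rcases hW K c _ _ (hg₀ ▸ R.act g₀) with h1 | ⟨h1, h2, h3, g, h4, h5, h6⟩
    · refine ⟨g₀, _, hg₀, ?_, s3, Or.inl rfl⟩
      rw [dp_iff] at h1 ⊢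
      simpa only [act_one, hg₀] using h1
    · refine ⟨g * g₀, _, by rw [act_mul, hg₀, h4], ?_, h3, Or.inr ⟨rfl, h1, h2, by simpa only [act_mul] using h6⟩⟩
      rw [dp_iff] at h5 ⊢
      simpa only [act_mul, hg₀] using h5
  have hI := inv_cj hB T h0
  obtain ⟨g₁, ν, o1, o2, gr, -⟩ := hGr K ψ X.par _ ![e, h, f] ![2, 0, -2] (by rw [Matrix.range_cons, Matrix.range_cons, Matrix.range_cons_empty]; exact hI) ⟨_, _, w2⟩
    ⟨gw * ψ dd, cl yw, by
      rw [dp_iff] at w2
      rw [dm_iff, act_mul, act_mul, act_mul, ← rp_apply, ← rp_apply, ← rp_apply, T.de, T.dh, T.df, act_neg, act_neg,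
        act_neg, neg_zero, neg_neg]
      exact ⟨neg_mem w2.2.2, neg_mem w2.2.1, neg_mem w2.1⟩⟩
  have lb : Lb e h f (nrm ν) := ⟨o1.2, by rw [← nrm_neg hN]; exact o2.2⟩
  obtain ⟨t, ht, hT⟩ := hV K ν (act g₁ h) (R.th.act g₁) (gr 1)
  rw [← act_mul] at hT
  set g := t * g₁ with hg
  have H : Gr ν (act g e) (act g h) (act g f) :=
    ⟨lb.act g, by rw [hg, act_mul, ht]; exact gr 0, by rw [hg, act_mul, ht]; exact gr 1, by rw [hg, act_mul, ht]; exact gr 2⟩
  have h0' : act g e ≠ 0 := fun e => h0 (act_eq_zero e)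
  obtain ⟨N, hN0, y, hy, hm⟩ := exists_min (rat_of_perp (S := {j | act g e j ≠ 0 ∨ act g f j ≠ 0}) (fun j hj =>
    hj.elim (fun hj => ⟨2, by rw [H.he j hj]; norm_num⟩) fun hj => ⟨-2, by rw [H.hf j hj]; norm_num⟩) (H.perp hN hT))
  by_cases hN1 : N ≠ 1
  · obtain ⟨p, hp, hd⟩ := Nat.exists_prime_and_dvd hN1
    obtain ⟨i, hi⟩ := hm p hp hd
    by_cases h3 : p = 3
    · subst h3
      exact absurd (three hN h9 (R.toSl2.act g) H hT hN0 hy hd i) hi
    · exact Or.inl (zcase hK hN hC (T.cj g) H hG (inv_cj hB (T.cj g) h0') hy hp h3 hd hi).of_cj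
  right
  rw [not_not.1 hN1, Nat.cast_one] at hy
  have hν : ν = (2 : ℝ) • cl y := AddMonoidHom.ext fun x => by rw [← one_mul (ν x), hy]; rfl
  have hB2 : B2 ν ν = 60 * ((4 * nm y : ℤ) : ℝ) := by
    rw [hν, B2_smul, B2_comm, B2_smul, hN.2]
    push_cast
    ring
  have n1 : (nrc c : ℤ) ≤ 4 * nm y := by
    have h1 := (nrm_le_iff hN).1 (hopt g ν (Eq_le_Ge H.he))
    rw [hB2, hN.2, s2] at h1
    exact_mod_cast le_of_mul_le_mul_left h1 (by norm_num)
  have n2 : 4 * nm y ≤ nm yw := by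
    have h1 := (nrm_le_iff hN).1 (lb.1 _ _ w2)
    rw [hB2, hN.2] at h1
    exact_mod_cast le_of_mul_le_mul_left h1 (by norm_num)
  have n3 := hZ K y (act g e) (R.ce.act g) fun j hj => by
    have h1 := hy (wt j)
    rw [mem_Eq.1 (H.he j hj)] at h1
    rw [mem_Eq, cl_apply]
    linarith
  rw [cd_act, hcd] at n3
  have n4 := nums c (even_nm y) n1 n3
  have n5 : nrm (cl yw) = nrm ν := by
    refine le_antisymm ((nrm_le_iff hN).2 ?_) (lb.1 _ _ w2)
    have h1 : nm yw ≤ 4 * nm y := by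
      rcases w4 with rfl | ⟨-, h1, h2, -⟩
      · rwa [s2]
      · rw [h2] at n2 ⊢
        exact (n4.2 h1 n2).2.ge
    rw [hB2, hN.2]
    exact mul_le_mul_of_nonneg_left (by exact_mod_cast h1) (by norm_num)
  -- transfer of the grading
  obtain ⟨g', hg'⟩ := hTr K g gw ν (cl yw) (hC K _ (hK K _ _ _) _ _ _ _
    ⟨(dp_of H.he H.hh H.hf).1, lb.1⟩ ⟨w2, n5 ▸ lb.1⟩)
  have e1 : act g' e = ec K c := by rw [hg' _ _ H.he, w1, pr_of_mem w3]
  have H' : Gr (cl yw) (act g' e) (act g' h) (act g' f) :=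
    ⟨n5 ▸ lb.act g', e1 ▸ w3, hg' _ _ H.hh ▸ pr_mem _ _ _, hg' _ _ H.hf ▸ pr_mem _ _ _⟩
  have T' := T.cj g'
  have I' := inv_cj hB T' fun e => h0 (act_eq_zero e)
  have S' := R.toSl2.act g'
  have X' := (X.cj g').fx
  rw [e1] at H' T' I' S'
  rcases w4 with rfl | ⟨rfl, h1, h2, h3⟩
  · rw [s2] at n2
    have h1 : c.val ≤ 8 := by rcases n4.1 n2 with rfl | rfl <;> decide
    rw [if_pos h1] at s4
    have h2 := isH hG hK hN hC X' T' I' S' H' s4
    rcases n4.1 n2 with rfl | rfl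
    · exact (hE3 K _ X' _ _ h2 H'.hf S'.ef I').elim
    · exact ⟨hcd.le, (hE8 K _ _ _ h2 H'.hf S'.ef I').of_cj⟩
  · rw [h2] at n2
    obtain ⟨rfl, -⟩ := n4.2 h1 n2
    obtain ⟨h₀, z, z1, z2, z3, z4⟩ := h3 rfl
    rw [← hg' _ _ H.hh] at z4
    have hd := lv_d hK hN hC T' H'
    rw [z4] at H' T' I' S'
    refine ⟨hcd.le.trans (by decide), (hE9 K _ h₀ z _ (cj g' ψ dd) z1 z2 z3 ?_ H'.hf S'.ef I' T'.de T'.dh T'.df
      fun c v hv => Eq_neg.1 (hd.LS hv)).of_cj⟩
    simpa using sub_mem H'.hh (inT_Eq z1.1 _)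

end Cfsg.Agent.E8A.C63

private theorem dce_697677508495 : _root_.True := by
  try have : _root_.True := by simp only [_root_.Cfsg.Agent.E8A.C63.nrc.eq_1]
  try have : _root_.True := by simp only [_root_.Cfsg.Agent.E8A.C63.cdc.eq_1]
  exact _root_.True.intro
end
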